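import Cfsg.Agent.OneMMN.Ito
import Cfsg.Agent.ClassSize.PPowerIndex
import Cfsg.Agent.S4035

/-!
Class sizes `1, m, m n` with `m, n` coprime: centralizers of elements of prime power order dividing `m`.
-/

set_option autoImplicit false

namespace CfsgLib.OneMMN

variable {G : Type*} [Group G] {m n : ℕ}

/-- Class sizes `1, m, m n`, with coprime `m, n > 1`, the last two occurring. -/
structure Data (G : Type*) [Group G] (m n : ℕ) : Prop where
  one_lt_m : 1 < m
  one_lt_n : 1 < n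
  cop : m.Coprime n
  sizes : ∀ x : G, (C x).index = 1 ∨ (C x).index = m ∨ (C x).index = m * n
  exM : ∃ x : G, (C x).index = m
  exT : ∃ x : G, (C x).index = m * n

variable (D : Data G m n)
include D

theorem Data.m_ne_zero : m ≠ 0 := Nat.pos_iff_ne_zero.1 (zero_lt_one.trans D.one_lt_m)

theorem Data.n_ne_zero : n ≠ 0 := Nat.pos_iff_ne_zero.1 (zero_lt_one.trans D.one_lt_n)

theorem Data.m_ne_mn : m ≠ m * n := fun e => by
  have h1 : m * 1 = m * n := by rw [mul_one]; exact e
  exact D.one_lt_n.ne (Nat.eq_of_mul_eq_mul_left (Nat.pos_of_ne_zero D.m_ne_zero) h1)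

theorem Data.idx {x : G} (hx : x ∉ Subgroup.center G) : (C x).index = m ∨ (C x).index = m * n :=
  (D.sizes x).resolve_left fun e => hx (idx_eq_one_iff.1 e)

theorem Data.nc_of_idx {x : G} (hx : (C x).index = m ∨ (C x).index = m * n) : x ∉ Subgroup.center G := fun h => by
  rw [idx_eq_one_iff.2 h] at hx
  rcases hx with e | e
  · exact D.one_lt_m.ne e
  · exact D.one_lt_m.ne' (Nat.eq_one_of_mul_eq_one_right e.symm)

theorem Data.idx_m_of_le [Finite G] {x y : G} (hy : y ∉ Subgroup.center G) (hx : (C x).index = m)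
    (h : C x ≤ C y) : C x = C y := by
  have hd := Subgroup.index_dvd_of_le h
  rw [hx] at hd
  rcases D.idx hy with e | e
  · exact eq_of_le_of_index h (hx.trans e.symm)
  · rw [e] at hd
    exact absurd (Nat.le_of_dvd (Nat.pos_of_ne_zero D.m_ne_zero) hd)
      (not_le.2 ((lt_mul_iff_one_lt_right (Nat.pos_of_ne_zero D.m_ne_zero)).2 D.one_lt_n))

theorem Data.idx_T_of_le [Finite G] {x y : G} (hx : x ∉ Subgroup.center G) (hy : (C y).index = m * n)
    (h : C x ≤ C y) : C x = C y := by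
  have hd := Subgroup.index_dvd_of_le h
  rw [hy] at hd
  rcases D.idx hx with e | e
  · rw [e] at hd
    exact absurd (Nat.le_of_dvd (Nat.pos_of_ne_zero D.m_ne_zero) hd)
      (not_le.2 ((lt_mul_iff_one_lt_right (Nat.pos_of_ne_zero D.m_ne_zero)).2 D.one_lt_n))
  · exact eq_of_le_of_index h (e.trans hy.symm)

variable {p : ℕ}

theorem Data.not_dvd_n (hp : p.Prime) (hpm : p ∣ m) : ¬ p ∣ n := fun h =>
  hp.ne_one (Nat.dvd_one.1 (D.cop ▸ Nat.dvd_gcd hpm h))

theorem Data.fact_idx (hp : p.Prime) (hpm : p ∣ m) {x : G} (hx : x ∉ Subgroup.center G) :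
    (C x).index.factorization p = m.factorization p := by
  rcases D.idx hx with e | e
  · rw [e]
  · rw [e, Nat.factorization_mul D.m_ne_zero D.n_ne_zero, Finsupp.add_apply,
      Nat.factorization_eq_zero_of_not_dvd (D.not_dvd_n hp hpm), add_zero]

omit D in
/-- The common order of the Sylow `p`-subgroups of the centralizers of noncentral elements. -/
noncomputable def pc (G : Type*) (m p : ℕ) : ℕ := p ^ ((Nat.card G).factorization p - m.factorization p)

theorem Data.fact_card [Finite G] (hp : p.Prime) (hpm : p ∣ m) {x : G} (hx : x ∉ Subgroup.center G) :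
    (Nat.card (C x)).factorization p + m.factorization p = (Nat.card G).factorization p := by
  rw [← D.fact_idx hp hpm hx, ← Finsupp.add_apply,
    ← Nat.factorization_mul Nat.card_pos.ne' Subgroup.index_ne_zero_of_finite, Subgroup.card_mul_index]

theorem Data.card_sylow_C [Finite G] [Fact p.Prime] (hpm : p ∣ m) {x : G} (hx : x ∉ Subgroup.center G)
    (U : Sylow p (C x)) : Nat.card (U : Subgroup (C x)) = pc G m p := by
  rw [U.card_eq_multiplicity, pc, ← D.fact_card Fact.out hpm hx, Nat.add_sub_cancel]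

theorem Data.exists_pSub [Finite G] [Fact p.Prime] (hpm : p ∣ m) {x : G} (hx : x ∉ Subgroup.center G)
    {W : Subgroup G} (hW : IsPGroup p W) (hWx : W ≤ C x) :
    ∃ U : Subgroup G, IsPGroup p U ∧ U ≤ C x ∧ W ≤ U ∧ Nat.card U = pc G m p := by
  have hW' : IsPGroup p (W.subgroupOf (C x)) := hW.of_equiv (Subgroup.subgroupOfEquivOfLe hWx).symm
  obtain ⟨U, hU⟩ := hW'.exists_le_sylow
  refine ⟨(U : Subgroup (C x)).map (C x).subtype, U.isPGroup'.map _, Subgroup.map_subtype_le _,
    fun w hw => ⟨⟨w, hWx hw⟩, hU hw, rfl⟩, ?_⟩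
  rw [Subgroup.card_map_of_injective (Subgroup.subtype_injective _), D.card_sylow_C hpm hx]

/-- A `p`-subgroup centralizing a noncentral element, of full order, absorbs every larger one. -/
theorem Data.pSub_max [Finite G] [Fact p.Prime] (hpm : p ∣ m) {x : G} (hx : x ∉ Subgroup.center G)
    {W U : Subgroup G} (hU : Nat.card U = pc G m p) (hUW : U ≤ W) (hW : IsPGroup p W) (hWx : W ≤ C x) :
    U = W := by
  obtain ⟨U', -, -, hWU', hU'⟩ := D.exists_pSub hpm hx hW hWx
  refine Subgroup.eq_of_le_of_card_ge hUW ?_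
  rw [hU, ← hU']
  exact Subgroup.card_le_of_le hWU'

theorem Data.exists_nc_pElt [Finite G] [Fact p.Prime] (hpm : p ∣ m) (P : Sylow p G) :
    ∃ u ∈ (P : Subgroup G), u ∉ Subgroup.center G := by
  by_contra h
  push Not at h
  obtain ⟨x, hx⟩ := D.exM
  have hle : (P : Subgroup G) ≤ C x := fun u hu => center_le_C x (h u hu)
  have := Subgroup.index_dvd_of_le hle
  rw [hx] at this
  exact P.not_dvd_index (hpm.trans this)

omit D in
/-- The `p`-elements of the centralizer. -/
def Sp (p : ℕ) (u : G) : Subgroup G := Subgroup.closure {a | a ∈ C u ∧ PElt p a}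

omit D in
/-- The `p'`-elements of the centralizer. -/
def Hp (p : ℕ) (u : G) : Subgroup G := Subgroup.closure {a | a ∈ C u ∧ ¬ p ∣ orderOf a}

omit D in
theorem Sp_le (p : ℕ) (u : G) : Sp p u ≤ C u := (Subgroup.closure_le _).2 fun _ ha => ha.1

omit D in
theorem Hp_le (p : ℕ) (u : G) : Hp p u ≤ C u := (Subgroup.closure_le _).2 fun _ ha => ha.1

/-- The centralizer of a noncentral `p`-element is a direct product. -/
theorem Data.cent_struct [Finite G] [Fact p.Prime] (hpm : p ∣ m) {u : G} (hu : PElt p u)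
    (huc : u ∉ Subgroup.center G) :
    IsPGroup p (Sp p u) ∧ Nat.card (Sp p u) = pc G m p ∧ (∀ x ∈ Hp p u, ¬ p ∣ orderOf x) ∧
      ∀ a ∈ Sp p u, ∀ b ∈ Hp p u, a * b = b * a := by
  have hp : p.Prime := Fact.out
  have hh : ∀ x : C u, (orderOf x).Coprime p → ¬ p ∣ (ConjClasses.mk x).carrier.ncard := by
    intro x hx
    have hxp : ¬ p ∣ orderOf (x : G) := by
      rw [Subgroup.orderOf_coe]
      exact hp.coprime_iff_not_dvd.1 hx.symm
    have e : Subgroup.centralizer ({x} : Set (C u)) = (C (x : G)).subgroupOf (C u) := by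
      ext y
      rw [Subgroup.mem_subgroupOf, Subgroup.mem_centralizer_singleton_iff, mem_C, Subtype.ext_iff]
      rfl
    rw [ClassSize.index_centralizer_eq_ncard, e]
    have e2 := C_mul (mem_C.1 x.2).symm (hu.coprime hp hxp)
    have hnc : u * (x : G) ∉ Subgroup.center G := fun hc => huc <| by
      rw [mem_center_iff_C, eq_top_iff, ← mem_center_iff_C.1 hc, e2]
      exact inf_le_left
    have e3 : (C (x : G)).relIndex (C u) * (C u).index = (C (u * (x : G))).index := by
      rw [e2, inf_comm, ← Subgroup.inf_relIndex_right]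
      exact Subgroup.relIndex_mul_index inf_le_right
    intro hd
    have h0 : (C (x : G)).relIndex (C u) ≠ 0 := Subgroup.index_ne_zero_of_finite
    have hf := congrArg (fun k => k.factorization p) e3
    simp only [Nat.factorization_mul h0 Subgroup.index_ne_zero_of_finite, Finsupp.add_apply,
      D.fact_idx hp hpm huc, D.fact_idx hp hpm hnc] at hf
    have := hp.factorization_pos_of_dvd h0 hd
    omega
  obtain ⟨P⟩ := (inferInstance : Nonempty (Sylow p (C u)))
  obtain ⟨hPn, H, hHn, hH, hinf, hsup⟩ := Cfsg.Agent.S4035.result hh P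
  have hidx : H.index = Nat.card (P : Subgroup (C u)) := by
    rw [← Subgroup.relIndex_top_right, ← hsup, Subgroup.relIndex_sup_right, ← Subgroup.inf_relIndex_left, hinf,
      Subgroup.relIndex_bot_left]
  have hPel : ∀ a : C u, PElt p (a : G) → a ∈ (P : Subgroup (C u)) := by
    intro a ha
    have ha' : PElt p a := by obtain ⟨k, hk⟩ := ha; exact ⟨k, by rw [← hk, Subgroup.orderOf_coe]⟩
    have hg : IsPGroup p ((P : Subgroup (C u)) ⊔ Subgroup.zpowers a : Subgroup (C u)) :=
      P.isPGroup'.to_sup_of_normal_left ha'.isPGroup_zpowers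
    exact P.is_maximal' hg le_sup_left ▸ Subgroup.mem_sup_right (Subgroup.mem_zpowers a)
  have hHel : ∀ b : C u, ¬ p ∣ orderOf (b : G) → b ∈ H := by
    intro b hb
    obtain ⟨k, hk⟩ := P.isPGroup'.exists_card_eq
    have hc : (Nat.card (P : Subgroup (C u))).Coprime (orderOf b) := by
      rw [hk, ← Subgroup.orderOf_coe]
      exact (hp.coprime_iff_not_dvd.2 hb).pow_left k
    obtain ⟨t, ht⟩ := exists_pow_eq_self_of_coprime hc
    rw [← ht, ← hidx]
    exact pow_mem (Subgroup.pow_index_mem H b) t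
  have hS : Sp p u = (P : Subgroup (C u)).map (C u).subtype := by
    refine le_antisymm ((Subgroup.closure_le _).2 fun a ha => ⟨⟨a, ha.1⟩, hPel _ ha.2, rfl⟩) ?_
    rintro _ ⟨a, ha, rfl⟩
    exact Subgroup.subset_closure ⟨a.2, PElt.of_mem hp (P.isPGroup'.map _) (Subgroup.mem_map_of_mem _ ha)⟩
  have hHp : Hp p u ≤ H.map (C u).subtype :=
    (Subgroup.closure_le _).2 fun b hb => ⟨⟨b, hb.1⟩, hHel _ hb.2, rfl⟩
  refine ⟨hS ▸ P.isPGroup'.map _, ?_, fun x hx => ?_, fun a ha b hb => ?_⟩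
  · rw [hS, Subgroup.card_map_of_injective (Subgroup.subtype_injective _), D.card_sylow_C hpm huc]
  · obtain ⟨y, hy, rfl⟩ := hHp hx
    intro hd
    rw [Subgroup.coe_subtype, Subgroup.orderOf_coe] at hd
    exact hH (hd.trans (Subgroup.orderOf_dvd_natCard H hy))
  · rw [hS] at ha
    obtain ⟨a', ha', rfl⟩ := ha
    obtain ⟨b', hb', rfl⟩ := hHp hb
    exact congrArg Subtype.val (Subgroup.commute_of_normal_of_disjoint _ _ hPn hHn
      (disjoint_iff.2 hinf) a' b' ha' hb').eq

omit D in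
theorem mem_Sp_of {u a : G} (ha : a ∈ C u) (ha' : PElt p a) : a ∈ Sp p u := Subgroup.subset_closure ⟨ha, ha'⟩

omit D in
theorem mem_Hp_of {u a : G} (ha : a ∈ C u) (ha' : ¬ p ∣ orderOf a) : a ∈ Hp p u :=
  Subgroup.subset_closure ⟨ha, ha'⟩

omit D in
theorem cent_split [Finite G] (hp : p.Prime) {u z : G} (hz : z ∈ C u) :
    ∃ a ∈ Sp p u, ∃ b ∈ Hp p u, z = a * b := by
  obtain ⟨a, b, rfl, -, ha, hb, haz, hbz⟩ := split hp z
  exact ⟨a, mem_Sp_of (Subgroup.zpowers_le.2 hz haz) ha, b, mem_Hp_of (Subgroup.zpowers_le.2 hz hbz) hb, rfl⟩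

theorem Data.Sp_inf_Hp [Finite G] [Fact p.Prime] (hpm : p ∣ m) {u : G} (hu : PElt p u)
    (huc : u ∉ Subgroup.center G) : Sp p u ⊓ Hp p u = ⊥ := by
  obtain ⟨h1, -, h3, -⟩ := D.cent_struct hpm hu huc
  rw [eq_bot_iff]
  exact fun x hx => Subgroup.mem_bot.2 ((PElt.of_mem Fact.out h1 hx.1).eq_one Fact.out (h3 x hx.2))

theorem Data.card_between [Finite G] [Fact p.Prime] (hpm : p ∣ m) {u : G} (hu : PElt p u)
    (huc : u ∉ Subgroup.center G) {K : Subgroup G} (hSK : Sp p u ≤ K) (hK : K ≤ C u) :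
    Nat.card K = Nat.card (Sp p u) * Nat.card (K ⊓ Hp p u : Subgroup G) := by
  rw [← Nat.card_prod]
  refine (Nat.card_congr (Equiv.ofBijective
    (fun x : (Sp p u) × (K ⊓ Hp p u : Subgroup G) => (⟨x.1.1 * x.2.1, mul_mem (hSK x.1.2) x.2.2.1⟩ : K)) ⟨?_, ?_⟩)).symm
  · intro x y h
    have h' : x.1.1 * x.2.1 = y.1.1 * y.2.1 := congrArg Subtype.val h
    have he : y.1.1⁻¹ * x.1.1 = y.2.1 * x.2.1⁻¹ := by
      calc y.1.1⁻¹ * x.1.1 = y.1.1⁻¹ * (x.1.1 * x.2.1) * x.2.1⁻¹ := by group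
        _ = _ := by rw [h']; group
    have hmem : y.1.1⁻¹ * x.1.1 ∈ Sp p u ⊓ Hp p u :=
      ⟨(Sp p u).mul_mem ((Sp p u).inv_mem y.1.2) x.1.2,
        by rw [he]; exact (Hp p u).mul_mem y.2.2.2 ((Hp p u).inv_mem x.2.2.2)⟩
    rw [D.Sp_inf_Hp hpm hu huc, Subgroup.mem_bot] at hmem
    have e1 : y.1.1 = x.1.1 := inv_mul_eq_one.1 hmem
    rw [hmem] at he
    exact Prod.ext (Subtype.ext e1.symm) (Subtype.ext (mul_inv_eq_one.1 he.symm).symm)
  · rintro ⟨z, hz⟩
    obtain ⟨a, ha, b, hb, rfl⟩ := cent_split (p := p) Fact.out (hK hz)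
    exact ⟨⟨⟨a, ha⟩, b, (Subgroup.mul_mem_cancel_left K (hSK ha)).1 hz, hb⟩, rfl⟩

end CfsgLib.OneMMN
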