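import Cfsg.Agent.OneMMN.Core
import Cfsg.Agent.Hall.Fitting

/-!
Class sizes `1, m, m n` with `m` a prime power: the normal complement.
-/

set_option autoImplicit false

namespace CfsgLib.OneMMN

open scoped Pointwise

variable {G : Type*} [Group G] {m n p a : ℕ}

theorem mem_of_pow_mem {H : Subgroup G} {x : G} {k : ℕ} (h : x ^ k ∈ H) (hk : k.Coprime (orderOf x)) :
    x ∈ H := by
  obtain ⟨t, ht⟩ := exists_pow_eq_self_of_coprime hk
  exact ht ▸ pow_mem h t

theorem commute_core {v g b : G} (ha : b ∈ (C v).normalCore) : b * (g * v * g⁻¹) = g * v * g⁻¹ * b := by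
  refine mem_C.1 (mem_C_conj.2 (Subgroup.normalCore_le _ ?_))
  simpa using (inferInstance : ((C v).normalCore).Normal).conj_mem b ha g⁻¹

variable (D : Data G m n) [Finite G] [Fact p.Prime]
include D

theorem Data.card_C (hpm : p ∣ m) {u : G} (hu : PElt p u) (huc : u ∉ Subgroup.center G) :
    Nat.card (C u) = pc G m p * Nat.card (Hp p u) := by
  rw [D.card_between hpm hu huc (Sp_le p u) le_rfl, inf_eq_right.2 (Hp_le p u), (D.cent_struct hpm hu huc).2.1]

theorem Data.not_dvd_card_Hp (hpm : p ∣ m) {u : G} (hu : PElt p u) (huc : u ∉ Subgroup.center G) :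
    ¬ p ∣ Nat.card (Hp p u) := fun hd => by
  obtain ⟨x, hx⟩ := exists_prime_orderOf_dvd_card' p hd
  exact (D.cent_struct hpm hu huc).2.2.1 x x.2 (by rw [Subgroup.orderOf_coe, hx])

theorem Data.card_G (hpm : p ∣ m) (hm : m = p ^ a) {u : G} (hu : PElt p u) (hui : (C u).index = m) :
    Nat.card G = Nat.card (Hp p u) * (pc G m p * p ^ a) ∧ (Hp p u).index = pc G m p * p ^ a := by
  have h1 : Nat.card G = Nat.card (Hp p u) * (pc G m p * p ^ a) := by
    have h := (C u).card_mul_index
    rw [hui, D.card_C hpm hu (D.nc_of_idx (Or.inl hui))] at h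
    rw [← h, ← hm]
    ring
  exact ⟨h1, Nat.eq_of_mul_eq_mul_left Nat.card_pos ((Hp p u).card_mul_index.trans h1)⟩

theorem Data.coprime_index_Hp (hpm : p ∣ m) (hm : m = p ^ a) {u : G} (hu : PElt p u) (hui : (C u).index = m)
    {x : G} (hx : ¬ p ∣ orderOf x) : ((Hp p u).index).Coprime (orderOf x) := by
  rw [(D.card_G hpm hm hu hui).2, pc, ← pow_add]
  exact ((Fact.out : p.Prime).coprime_iff_not_dvd.2 hx).pow_left _

theorem Data.exists_nc_Hp (hpm : p ∣ m) (hm : m = p ^ a) {u : G} (hu : PElt p u) (hui : (C u).index = m) :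
    ∃ h ∈ Hp p u, h ∉ Subgroup.center G := by
  by_contra h
  push Not at h
  obtain ⟨t, ht⟩ := D.exT
  have hd := Subgroup.index_dvd_of_le (le_trans (fun x hx => h x hx) (center_le_C t) : Hp p u ≤ C t)
  rw [ht, (D.card_G hpm hm hu hui).2, pc, ← pow_add] at hd
  obtain ⟨q, hq, hqn⟩ := Nat.exists_prime_and_dvd D.one_lt_n.ne'
  have := (Nat.prime_dvd_prime_iff_eq hq Fact.out).1 (hq.dvd_of_dvd_pow ((hqn.mul_left m).trans hd))
  exact D.not_dvd_n Fact.out hpm (this ▸ hqn)

omit [Finite G] in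
theorem Data.pReg (hm : m = p ^ a)
    (hL : ∀ h : G, ¬ p ∣ orderOf h → h ∉ Subgroup.center G → (C h).index = m) : ClassSize.PRegPPow p G := by
  intro x hx
  by_cases hxc : x ∈ Subgroup.center G
  · exact ⟨0, by rw [pow_zero]; exact idx_eq_one_iff.2 hxc⟩
  · exact ⟨a, (hL x ((Fact.out : p.Prime).coprime_iff_not_dvd.1 hx.symm) hxc).trans hm⟩

theorem Data.hp_comm (hpm : p ∣ m) (hm : m = p ^ a)
    (hL : ∀ h : G, ¬ p ∣ orderOf h → h ∉ Subgroup.center G → (C h).index = m) {u : G} (hu : PElt p u)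
    (hui : (C u).index = m) : ∀ x ∈ Hp p u, ∀ y ∈ Hp p u, x * y = y * x := by
  have hp : p.Prime := Fact.out
  haveI := ClassSize.isSolvable_of_pRegPPow hp _ G rfl (D.pReg hm hL)
  obtain ⟨A, hA, hAp, k, hk⟩ := ClassSize.exists_abelian_complement hp (D.pReg hm hL)
  obtain ⟨hG, hi⟩ := D.card_G hpm hm hu hui
  have hpow : pc G m p * p ^ a = p ^ ((Nat.card G).factorization p - m.factorization p + a) := by
    rw [pc, ← pow_add]
  rw [hpow] at hG
  have hHp := D.not_dvd_card_Hp hpm hu (D.nc_of_idx (Or.inl hui))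
  have hA' : Nat.card A = Nat.card (Hp p u) := by
    have h := A.card_mul_index
    rw [hk] at h
    refine Nat.dvd_antisymm ?_ ?_
    · exact ((hp.coprime_iff_not_dvd.2 hAp).pow_left _).symm.dvd_of_dvd_mul_right (hG ▸ Dvd.intro _ h)
    · exact ((hp.coprime_iff_not_dvd.2 hHp).pow_left _).symm.dvd_of_dvd_mul_right (h.symm ▸ Dvd.intro _ hG.symm)
  obtain ⟨g, hg⟩ := Hall.hall_conj _ _ hG ((hp.coprime_iff_not_dvd.2 hHp).pow_left _).symm A (Hp p u) hA' rfl
  intro x hx y hy
  rw [← hg] at hx hy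
  obtain ⟨x, hx', rfl⟩ := hx
  obtain ⟨y, hy', rfl⟩ := hy
  show (MulAut.conj g) x * (MulAut.conj g) y = (MulAut.conj g) y * (MulAut.conj g) x
  rw [← map_mul, ← map_mul, show x * y = y * x from congrArg Subtype.val (hA.is_comm.comm ⟨x, hx'⟩ ⟨y, hy'⟩)]

theorem Data.C_normal (hpm : p ∣ m) (hm : m = p ^ a)
    (hL : ∀ h : G, ¬ p ∣ orderOf h → h ∉ Subgroup.center G → (C h).index = m) {u : G} (hu : PElt p u)
    (hui : (C u).index = m) : (C u).Normal := by
  have hp : p.Prime := Fact.out
  haveI := ClassSize.isSolvable_of_pRegPPow hp _ G rfl (D.pReg hm hL)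
  have huc := D.nc_of_idx (Or.inl hui)
  obtain ⟨hS, hSc, hH, hcomm⟩ := D.cent_struct hpm hu huc
  have habel := D.hp_comm hpm hm hL hu hui
  set A := Cfsg.pPrimeCore p G
  haveI hAn : A.Normal := by
    haveI := PCore.pPrimeCore_characteristic p G
    infer_instance
  have hAc : (Nat.card A).Coprime p := PCore.pPrimeCore_coprime p G
  have hAH : A ≤ Hp p u := by
    intro x hx
    have h1 := ClassSize.relIndex_dvd_index_of_normal A (Hp p u)
    rw [(D.card_G hpm hm hu hui).2, pc, ← pow_add] at h1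
    have h3 : (Hp p u).relIndex A = 1 :=
      Nat.eq_one_of_dvd_coprimes (hAc.pow_right _) (Subgroup.relIndex_dvd_card _ _) h1
    exact Subgroup.relIndex_eq_one.1 h3 hx
  by_cases hAZ : A ≤ Subgroup.center G
  swap
  · obtain ⟨b, hb, hbc⟩ := SetLike.not_le_iff_exists.1 hAZ
    have hle : C u ≤ Subgroup.centralizer (A : Set G) := by
      intro y hy
      rw [Subgroup.mem_centralizer_iff]
      intro c hc
      obtain ⟨s, hs, h', hh', rfl⟩ := cent_split (p := p) hp hy
      exact ((show Commute s c from hcomm s hs c (hAH hc)).mul_left (habel h' hh' c (hAH hc))).eq.symm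
    have hle' : Subgroup.centralizer (A : Set G) ≤ C b := fun y hy =>
      mem_C.2 (Subgroup.mem_centralizer_iff.1 hy b hb).symm
    have e : C u = C b := D.idx_m_of_le hbc hui (hle.trans hle')
    have e' : C u = Subgroup.centralizer (A : Set G) := le_antisymm hle (hle'.trans e.ge)
    rw [e']
    infer_instance
  exfalso
  obtain ⟨h0, hh0, hh0c⟩ := D.exists_nc_Hp hpm hm hu hui
  obtain ⟨P, hSP⟩ := hS.exists_le_sylow
  set O := Cfsg.pCore p G
  haveI hOn : O.Normal := by
    haveI := PCore.pCore_characteristic p G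
    infer_instance
  have hOS : O ≤ Sp p u := by
    by_contra hnot
    set W := O ⊔ Sp p u
    have hWP : W ≤ P := sup_le (PCore.pCore_le_sylow P) hSP
    haveI : Group.IsNilpotent W := (P.isPGroup'.to_le hWP).isNilpotent
    obtain ⟨t, ht, htS⟩ : ∃ t ∈ W, t ∉ Sp p u ∧ t ∈ Subgroup.normalizer ((Sp p u : Subgroup G) : Set G) := by
      have hlt : (Sp p u).subgroupOf W < ⊤ := lt_top_iff_ne_top.2 fun e =>
        hnot (le_sup_left.trans (Subgroup.subgroupOf_eq_top.1 e))
      obtain ⟨t, htN, htS⟩ := SetLike.exists_of_lt (Group.normalizerCondition_of_isNilpotent _ hlt)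
      refine ⟨t, t.2, fun h => htS (Subgroup.mem_subgroupOf.2 h), ?_⟩
      rw [Subgroup.mem_normalizer_iff]
      intro y
      constructor
      · intro hy
        exact (Subgroup.mem_normalizer_iff.1 htN ⟨y, (le_sup_right : Sp p u ≤ W) hy⟩).1 hy
      · intro hy
        have hyW : y ∈ W := by
          have := mul_mem (mul_mem (inv_mem t.2) ((le_sup_right : Sp p u ≤ W) hy)) t.2
          simpa [mul_assoc] using this
        exact (Subgroup.mem_normalizer_iff.1 htN ⟨y, hyW⟩).2 hy
    obtain ⟨o, ho, s, hs, rfl⟩ := Subgroup.mem_sup_of_normal_left.1 ht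
    refine htS.1 (mul_mem ?_ hs)
    have hoN : o ∈ Subgroup.normalizer ((Sp p u : Subgroup G) : Set G) := by
      have := mul_mem htS.2 (inv_mem (Subgroup.le_normalizer hs))
      rwa [mul_inv_cancel_right] at this
    have hoh : h0 * o * h0⁻¹ = o := by
      set d := o⁻¹ * (h0 * o * h0⁻¹) with hd
      have hdu : d ∈ C u := by
        have h1 : o * u * o⁻¹ ∈ Sp p u :=
          (Subgroup.mem_normalizer_iff.1 hoN u).1 (mem_Sp_of (self_mem_C u) hu)
        have h2 : u * h0 = h0 * u := hcomm u (mem_Sp_of (self_mem_C u) hu) h0 hh0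
        have h3 := hcomm _ h1 h0 hh0
        have h4 : h0 * o * h0⁻¹ * u * (h0 * o * h0⁻¹)⁻¹ = o * u * o⁻¹ := by
          calc h0 * o * h0⁻¹ * u * (h0 * o * h0⁻¹)⁻¹ = h0 * o * (h0⁻¹ * (u * h0)) * o⁻¹ * h0⁻¹ := by group
            _ = h0 * (o * u * o⁻¹) * h0⁻¹ := by rw [h2]; group
            _ = _ := by rw [← h3, mul_inv_cancel_right]
        rw [mem_C]
        calc d * u = o⁻¹ * (h0 * o * h0⁻¹ * u * (h0 * o * h0⁻¹)⁻¹) * o * d := by rw [hd]; group
          _ = _ := by rw [h4]; group
      have hdS : d ∈ Sp p u := mem_Sp_of hdu (PElt.of_mem hp (PCore.isPGroup_pCore p G)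
        (mul_mem (inv_mem ho) (hOn.conj_mem o ho h0)))
      have hstep := conj_pow_step (x := h0) (a := o) (d := d) (by rw [hd, mul_inv_cancel_left])
        (hcomm d hdS h0 hh0).symm (orderOf h0)
      rw [pow_orderOf_eq_one, inv_one, one_mul, mul_one, left_eq_mul] at hstep
      have hd1 : d = 1 := (PElt.of_mem hp hS hdS).eq_one hp fun h =>
        hH h0 hh0 (h.trans (orderOf_dvd_of_pow_eq_one hstep))
      rwa [hd, inv_mul_eq_one, eq_comm] at hd1
    exact D.mem_S_of_comm hpm P hu huc hSP hh0 hh0c (PCore.pCore_le_sylow P ho)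
      (mem_C.2 (mul_inv_eq_iff_eq_mul.1 hoh).symm)
  have hF : Cfsg.fittingSubgroup G ≤ O ⊔ Subgroup.center G := by
    rw [Hall.fitting_eq_iSup_primes]
    refine iSup_le fun q => ?_
    by_cases hqp : (q : ℕ) = p
    · rw [hqp]; exact le_sup_left
    haveI : Fact (q : ℕ).Prime := ⟨q.2⟩
    refine le_sup_of_le_right ((PCore.le_pPrimeCore ?_ ?_).trans hAZ)
    · haveI := PCore.pCore_characteristic (q : ℕ) G
      infer_instance
    · obtain ⟨k, hk⟩ := (PCore.isPGroup_pCore (q : ℕ) G).exists_card_eq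
      rw [hk]
      exact (((Nat.coprime_primes q.2 hp).2 hqp)).pow_left k
  have hh0F : h0 ∈ Subgroup.centralizer (Cfsg.fittingSubgroup G : Set G) := by
    rw [Subgroup.mem_centralizer_iff]
    intro f hf
    obtain ⟨o, ho, z, hz, rfl⟩ := Subgroup.mem_sup_of_normal_left.1 (hF hf)
    exact ((show Commute o h0 from hcomm o (hOS ho) h0 hh0).mul_left
      (Subgroup.mem_center_iff.1 hz h0).symm).eq
  obtain ⟨o, ho, z, hz, e⟩ := Subgroup.mem_sup_of_normal_left.1 (hF (Hall.centralizer_fitting_le hh0F))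
  obtain ⟨k, hk⟩ := PElt.of_mem hp (PCore.isPGroup_pCore p G) ho
  refine hh0c (mem_of_pow_mem (k := p ^ k) ?_ ((hp.coprime_iff_not_dvd.2 (hH h0 hh0)).pow_left k))
  rw [← e, (show Commute o z from Subgroup.mem_center_iff.1 hz o).mul_pow, ← hk, pow_orderOf_eq_one, one_mul]
  exact pow_mem hz _

theorem Data.Hp_central_of_T (hpm : p ∣ m) {x u : G} (hx : PElt p x) (hxT : (C x).index = m * n)
    (hxH : ∀ z ∈ C x, ¬ p ∣ orderOf z → z ∈ Subgroup.center G) (hu : PElt p u) (huT : (C u).index = m * n) :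
    ∀ z ∈ C u, ¬ p ∣ orderOf z → z ∈ Subgroup.center G := by
  intro z hz hzp
  have hxc := D.nc_of_idx (Or.inr hxT)
  have huc := D.nc_of_idx (Or.inr huT)
  have hle : Hp p x ≤ Subgroup.center G := (Subgroup.closure_le _).2 fun b hb => hxH b hb.1 hb.2
  have hle' : Hp p x ≤ Hp p u := fun b hb =>
    mem_Hp_of (center_le_C u (hle hb)) ((D.cent_struct hpm hx hxc).2.2.1 b hb)
  have hc := card_eq_of_index_eq (hxT.trans huT.symm)
  rw [D.card_C hpm hx hxc, D.card_C hpm hu huc] at hc
  have := eq_of_le_of_card hle' (Nat.eq_of_mul_eq_mul_left (pow_pos (Fact.out : p.Prime).pos _) hc)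
  exact hle (this ▸ mem_Hp_of hz hzp)

theorem Data.no_all_T (hm : m = p) (hT : ∀ b : G, PElt p b → b ∉ Subgroup.center G → (C b).index = m * n) :
    False := by
  have hp : p.Prime := Fact.out
  have hpm : p ∣ m := hm ▸ dvd_rfl
  have hf : m.factorization p = 1 := by rw [hm, hp.factorization_self]
  have hsyl : ∀ {b : G}, PElt p b → b ∉ Subgroup.center G → ∀ l : ℕ, ∀ _ : Fact l.Prime, l ∣ m →
      ∃ Q : Sylow l G, (Q : Subgroup G) ≤ Subgroup.normalizer ((C b : Subgroup G) : Set G) := by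
    intro b hb hbc l hl hlm
    obtain rfl : l = p := (Nat.prime_dvd_prime_iff_eq hl.out hp).1 (hm ▸ hlm)
    exact (D.exists_sylow_norm hlm hf hb hbc).imp fun _ h => h.2
  obtain ⟨v, hv, hvp⟩ := D.exists_pPrime_m hp hpm hT
  have hvc := D.nc_of_idx (Or.inl hv)
  obtain ⟨u, huv, hu, huc⟩ := D.exists_pElt_in hpm hvc
  have hle := D.cent_le_T hpm hu (hT u hu huc) (mem_C_comm.1 huv) hvp
  have hcore := D.cent_le_core hv hle (hsyl hu huc)
  obtain ⟨P, hSP⟩ := (D.cent_struct hpm hu huc).1.exists_le_sylow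
  have hSc := (D.cent_struct hpm hu huc).2.1
  have hPX := D.inf_core hpm P hu huc hvc hSP hcore
  have hmax : ∀ {y b : G}, b ∉ Subgroup.center G → y ∈ (P : Subgroup G) → y ∈ C b → Sp p u ≤ C b →
      y ∈ Sp p u := by
    intro y b hb hy hyb hSb
    have := D.pSub_max hpm hb hSc le_sup_left (P.isPGroup'.to_le (sup_le hSP (Subgroup.zpowers_le.2 hy)))
      (sup_le hSb (Subgroup.zpowers_le.2 hyb))
    exact this ▸ Subgroup.mem_sup_right (Subgroup.mem_zpowers y)
  obtain ⟨x, hx, hxS⟩ := D.exists_notMem_Sp hpm hu huc P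
  have hxp := PElt.of_mem hp P.isPGroup' hx
  have hxc := D.nc_of_notMem_Sp hpm P hx hxS
  have hxv : x ∉ C v := fun h => hxS (hmax hvc hx h ((Sp_le p u).trans hle))
  have hxH : ∀ h ∈ C x, ¬ p ∣ orderOf h → h ∈ Subgroup.center G := by
    intro h hh hhp
    by_contra hhc
    -- `h` centralizes `v`
    have hrel : (C v).relIndex (Subgroup.zpowers x) = (C v).index := by
      refine le_antisymm ?_ ?_
      · have := Subgroup.relIndex_le_of_le_right (H := C v) (le_top : Subgroup.zpowers x ≤ ⊤)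
          (by rw [Subgroup.relIndex_top_right]; exact Subgroup.index_ne_zero_of_finite)
        rwa [Subgroup.relIndex_top_right] at this
      obtain ⟨k, hk⟩ := hxp
      have hd := Subgroup.relIndex_dvd_card (C v) (Subgroup.zpowers x)
      rw [Nat.card_zpowers, hk] at hd
      obtain ⟨i, -, hi⟩ := (Nat.dvd_prime_pow hp).1 hd
      rw [hv, hm, hi]
      refine Nat.le_of_dvd (pow_pos hp.pos _) (dvd_pow_self p fun hi0 => hxv ?_)
      rw [hi0, pow_zero, Subgroup.relIndex_eq_one] at hi
      exact hi (Subgroup.mem_zpowers x)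
    obtain ⟨y, hy, hyh⟩ := exists_mul_of_relIndex hrel h
    have hyh' : Commute y h := by
      obtain ⟨i, rfl⟩ := hy
      exact (show Commute x h from (mem_C.1 hh).symm).zpow_left i
    have hyv : y ∈ C v := by
      have h1 := inv_mem (pow_mem hyh (orderOf h))
      rw [hyh'.inv_left.mul_pow, pow_orderOf_eq_one, mul_one, inv_pow, inv_inv] at h1
      refine mem_of_pow_mem h1 (PElt.coprime hp ?_ hhp).symm
      obtain ⟨k, hk⟩ := hxp
      exact PElt.of_mem hp (PElt.isPGroup_zpowers ⟨k, hk⟩) hy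
    have hhv : h ∈ C v := by simpa using mul_mem hyv hyh
    -- its class has size `p`
    have hlex := D.cent_le_T hpm hxp (hT x hxp hxc) hh hhp
    have hhi : (C h).index = m := (D.idx hhc).resolve_right fun hhT => hxv (by
      have : v ∈ C x := by
        rw [eq_of_le_of_index hlex ((hT x hxp hxc).trans hhT.symm)]
        exact mem_C_comm.1 hhv
      exact mem_C_comm.1 this)
    have hcore' := D.cent_le_core hhi hlex (hsyl hxp hxc)
    obtain ⟨hSx, hSxc, -, -⟩ := D.cent_struct hpm hxp hxc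
    obtain ⟨g, hg⟩ := exists_conj_mem_sylow P hSx
    set U := (P : Subgroup G) ⊓ (C h).normalCore with hU
    have hUc : Nat.card U = pc G m p := by
      have hc : Nat.card ((Sp p x).map (MulAut.conj g).toMonoidHom : Subgroup G) = pc G m p :=
        (Subgroup.card_map_of_injective (MulAut.conj g).injective).trans hSxc
      have := D.pSub_max hpm hhc (U := (Sp p x).map (MulAut.conj g).toMonoidHom) (W := U) hc ?_
        (P.isPGroup'.to_le inf_le_left) (inf_le_right.trans (Subgroup.normalCore_le _))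
      · rw [← this]; exact hc
      · rintro _ ⟨b, hb, rfl⟩
        exact ⟨hg b hb, (inferInstance : ((C h).normalCore).Normal).conj_mem b
          (hcore' (Sp_le p x hb)) g⟩
    have hxU : x ∈ U := ⟨hx, hcore' (self_mem_C x)⟩
    have hSU : Sp p u ⊔ U = P := by
      have hle1 : Sp p u ⊔ U ≤ P := sup_le hSP inf_le_left
      refine eq_of_le_of_card hle1 ?_
      obtain ⟨k, hk⟩ := Subgroup.card_dvd_of_le (le_sup_left : Sp p u ≤ Sp p u ⊔ U)
      have hd := Subgroup.card_dvd_of_le hle1
      rw [hk, D.card_P hpm P, hf, pow_one, hSc] at hd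
      rw [hk, D.card_P hpm P, hf, pow_one, hSc]
      rcases (Nat.dvd_prime hp).1 ((Nat.mul_dvd_mul_iff_left (pow_pos hp.pos _)).1 hd) with h1 | h1
      · exfalso
        rw [h1, mul_one] at hk
        exact hxS ((eq_of_le_of_card (le_sup_left : Sp p u ≤ Sp p u ⊔ U) hk.symm).ge
          (Subgroup.mem_sup_right hxU))
      · rw [h1]
    -- a `p`-element centralizing `v h`
    have hvh : v * h ∉ Subgroup.center G := fun hc => hxv <| by
      have hxvh : v ∈ C x := by
        simpa using mul_mem (center_le_C (G := G) x hc) (inv_mem hh)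
      exact mem_C_comm.1 hxvh
    obtain ⟨t0, ht0, ht0p, ht0c⟩ := D.exists_pElt_in hpm hvh
    obtain ⟨k, hk⟩ := exists_conj_mem_sylow P ht0p.isPGroup_zpowers
    set t := k * t0 * k⁻¹
    have ht : t ∈ (P : Subgroup G) := hk t0 (Subgroup.mem_zpowers t0)
    have htp := ht0p.conj k
    have htc : t ∉ Subgroup.center G := mt conj_mem_center.1 ht0c
    set v' := k * v * k⁻¹
    set h' := k * h * k⁻¹
    have htvh : t * (v' * h') = v' * h' * t := by
      have := mem_C.1 ht0
      calc t * (v' * h') = k * (t0 * (v * h)) * k⁻¹ := by simp only [t, v', h']; group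
        _ = k * (v * h * t0) * k⁻¹ := by rw [this]
        _ = _ := by simp only [t, v', h']; group
    set d := t * v' * t⁻¹ * v'⁻¹ with hd
    have hd' : d = v' * (h' * (t * h' * t⁻¹)⁻¹) * v'⁻¹ := by
      calc d = t * (v' * h') * (h'⁻¹ * t⁻¹) * v'⁻¹ := by rw [hd]; group
        _ = _ := by rw [htvh]; group
    have hdX : ∀ b ∈ (C v).normalCore, b ∈ C d := by
      intro b hb
      refine mem_C.2 ?_
      have h1 : Commute b (t * v' * t⁻¹) := by
        have := commute_core (g := t * k) hb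
        rwa [show t * k * v * (t * k)⁻¹ = t * v' * t⁻¹ by simp only [v']; group] at this
      exact (h1.mul_right (show Commute b v' from commute_core hb).inv_right).eq
    have hdX' : ∀ b ∈ (C h).normalCore, b ∈ C d := by
      intro b hb
      rw [hd', mem_C_conj]
      have hb' := (inferInstance : ((C h).normalCore).Normal).conj_mem b hb v'⁻¹
      rw [inv_inv] at hb'
      refine mem_C.2 ((show Commute _ h' from commute_core hb').mul_right (Commute.inv_right ?_)).eq
      have := commute_core (g := t * k) hb'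
      rwa [show t * k * h * (t * k)⁻¹ = t * h' * t⁻¹ by simp only [h']; group] at this
    have hdc : d ∈ Subgroup.center G := by
      by_contra hdc
      refine D.not_sylow_le_C hpm hdc P (hSU ▸ sup_le (fun b hb => hdX b ?_) (fun b hb => hdX' b hb.2))
      exact hcore (Sp_le p u hb)
    have hd1 : d = 1 := by
      have e : t * v' * t⁻¹ = v' * d := by
        rw [Subgroup.mem_center_iff.1 hdc v', hd, inv_mul_cancel_right]
      obtain ⟨i, hi⟩ := htp
      have h1 := conj_pow_step e (Subgroup.mem_center_iff.1 hdc t) (p ^ i)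
      rw [← hi, pow_orderOf_eq_one, inv_one, one_mul, mul_one, left_eq_mul] at h1
      have h2 : (t * v' * t⁻¹) ^ orderOf v' = 1 := by rw [conj_pow, pow_orderOf_eq_one, mul_one, mul_inv_cancel]
      rw [e, (show Commute v' d from Subgroup.mem_center_iff.1 hdc v').mul_pow, pow_orderOf_eq_one, one_mul] at h2
      refine PElt.eq_one hp (p := p) ?_ fun hh' => ?_
      · obtain ⟨j, -, hj⟩ := (Nat.dvd_prime_pow hp).1 (hi ▸ orderOf_dvd_of_pow_eq_one h1)
        exact ⟨j, hj⟩
      · exact hvp (by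
          have := hh'.trans (orderOf_dvd_of_pow_eq_one h2)
          rwa [orderOf_conj] at this)
    have htv : t ∈ C v' := by
      rw [hd, mul_inv_eq_one] at hd1
      exact mem_C.2 (mul_inv_eq_iff_eq_mul.1 hd1)
    have hth : t ∈ C h' := by
      have : v' * (t * h') = v' * (h' * t) := by
        rw [← mul_assoc, ← mem_C.1 htv, mul_assoc, htvh, mul_assoc]
      exact mem_C.2 (mul_left_cancel this)
    have hv'c : v' ∉ Subgroup.center G := mt conj_mem_center.1 hvc
    have hh'c : h' ∉ Subgroup.center G := mt conj_mem_center.1 hhc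
    have htT := hT t htp htc
    have hCtv := D.cent_le_T hpm htp htT (mem_C_comm.1 htv) (by rwa [orderOf_conj])
    have hCth := D.cent_le_T hpm htp htT (mem_C_comm.1 hth) (by rwa [orderOf_conj])
    obtain ⟨hSt, hStc, -, -⟩ := D.cent_struct hpm htp htc
    obtain ⟨l, hl⟩ := exists_conj_mem_sylow P hSt
    set W := (Sp p t).map (MulAut.conj l).toMonoidHom with hW
    have hWc : Nat.card W = pc G m p :=
      (Subgroup.card_map_of_injective (MulAut.conj l).injective).trans hStc
    have hWP : W ≤ P := by rintro _ ⟨b, hb, rfl⟩; exact hl b hb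
    have key : ∀ {b : G}, b ∉ Subgroup.center G → C t ≤ C (k * b * k⁻¹) →
        W ≤ C (l * (k * b * k⁻¹) * l⁻¹) := by
      intro b _ hb
      rw [C_conj l]
      exact Subgroup.map_mono ((Sp_le p t).trans hb)
    have hWS : W ≤ Sp p u := fun y hy => hmax (mt conj_mem_center.1 hv'c) (hWP hy) (key hvc hCtv hy)
      fun b hb => mem_C.2 (by
        have := commute_core (g := l * k) (hcore (Sp_le p u hb))
        rwa [show l * k * v * (l * k)⁻¹ = l * (k * v * k⁻¹) * l⁻¹ by group] at this)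
    have hWU : W ≤ U := by
      intro y hy
      have := D.pSub_max hpm (mt conj_mem_center.1 hh'c : l * h' * l⁻¹ ∉ Subgroup.center G) hUc le_sup_left
        (P.isPGroup'.to_le (sup_le inf_le_left (Subgroup.zpowers_le.2 (hWP hy))))
        (sup_le (fun b hb => mem_C.2 (by
          have := commute_core (g := l * k) hb.2
          rwa [show l * k * h * (l * k)⁻¹ = l * (k * h * k⁻¹) * l⁻¹ by group] at this))
          (Subgroup.zpowers_le.2 (key hhc hCth hy)))
      exact this ▸ Subgroup.mem_sup_right (Subgroup.mem_zpowers y)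
    rw [← eq_of_le_of_card hWU (hWc.trans hUc.symm)] at hxU
    exact hxS (hWS hxU)
  exact hvc (D.Hp_central_of_T hpm hxp (hT x hxp hxc) hxH hu (hT u hu huc) v (mem_C_comm.1 huv) hvp)

theorem Data.exists_good (hpm : p ∣ m) (hm : m = p ^ a) :
    (∀ h : G, ¬ p ∣ orderOf h → h ∉ Subgroup.center G → (C h).index = m) ∧
      ∃ u : G, PElt p u ∧ (C u).index = m := by
  have hp : p.Prime := Fact.out
  obtain ⟨P⟩ := (inferInstance : Nonempty (Sylow p G))
  rcases D.fact_one_or hpm P with hf | ⟨j, hjP, hjc, -, -, -, hcen⟩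
  swap
  · obtain ⟨-, hjT, hL⟩ := D.big hpm hjc hcen
    refine ⟨hL, ?_⟩
    by_contra hno
    push Not at hno
    have hT : ∀ b : G, PElt p b → b ∉ Subgroup.center G → (C b).index = m * n := fun b hb hbc =>
      (D.idx hbc).resolve_left (hno b hb)
    obtain ⟨v, hv, hvp⟩ := D.exists_pPrime_m hp hpm hT
    obtain ⟨u, huv, hu, huc⟩ := D.exists_pElt_in hpm (D.nc_of_idx (Or.inl hv))
    exact D.nc_of_idx (Or.inl hv) (D.Hp_central_of_T hpm (PElt.of_mem hp P.isPGroup' hjP) hjT hcen hu
      (hT u hu huc) v (mem_C_comm.1 huv) hvp)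
  have hmp : m = p := by
    rw [hm, hp.factorization_pow, Finsupp.single_eq_same] at hf
    rw [hm, hf, pow_one]
  obtain ⟨u, hu, hui⟩ : ∃ u : G, PElt p u ∧ (C u).index = m := by
    by_contra hno
    push Not at hno
    exact D.no_all_T hmp fun b hb hbc => (D.idx hbc).resolve_left (hno b hb)
  refine ⟨?_, u, hu, hui⟩
  have huc := D.nc_of_idx (Or.inl hui)
  obtain ⟨Q, hSQ, hQN⟩ := D.exists_sylow_norm hpm hf hu huc
  haveI hn : (C u).Normal := by
    rw [← Subgroup.normalizer_eq_top_iff, ← Subgroup.index_eq_one]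
    have hle : C u ≤ Subgroup.normalizer ((C u : Subgroup G) : Set G) := Subgroup.le_normalizer
    rcases (Nat.dvd_prime hp).1 (hmp ▸ hui ▸ Subgroup.index_dvd_of_le hle) with h1 | h1
    · exact h1
    · exact absurd ((eq_of_le_of_index hle (hui.trans (hmp.trans h1.symm))).symm ▸ hQN)
        (D.not_sylow_le_C hpm huc Q)
  obtain ⟨x, hx, hxS⟩ := D.exists_notMem_Sp hpm hu huc Q
  refine (D.big hpm (D.nc_of_notMem_Sp hpm Q hx hxS) fun z hz hzp => ?_).2.2
  by_contra hzc
  have hzu : z ∈ C u := mem_of_pow_mem (Subgroup.pow_index_mem (C u) z) <| by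
    rw [hui, hmp]
    exact hp.coprime_iff_not_dvd.2 hzp
  exact hxS (D.mem_S_of_comm hpm Q hu huc hSQ (mem_Hp_of hzu hzp) hzc hx (mem_C_comm.1 hz))

end CfsgLib.OneMMN
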