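import Cfsg.Agent.OneMMN.Step

/-!
Class sizes `1, m, m n`: a normal subgroup between the two centralizers, and only one prime divides `m`.
-/

set_option autoImplicit false

namespace CfsgLib.OneMMN

variable {G : Type*} [Group G] {m n p r : ℕ}

theorem conj_pow_step {x a d : G} (h : x * a * x⁻¹ = a * d) (hd : x * d = d * x) (i : ℕ) :
    x ^ i * a * (x ^ i)⁻¹ = a * d ^ i := by
  induction i with
  | zero => simp
  | succ i ih =>
    have hd' : x * d ^ i * x⁻¹ = d ^ i := by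
      rw [((show Commute x d from hd).pow_right i).eq, mul_inv_cancel_right]
    calc x ^ (i + 1) * a * (x ^ (i + 1))⁻¹ = x * (x ^ i * a * (x ^ i)⁻¹) * x⁻¹ := by rw [pow_succ']; group
      _ = (x * a * x⁻¹) * (x * d ^ i * x⁻¹) := by rw [ih]; group
      _ = _ := by rw [h, hd', pow_succ', mul_assoc]

theorem pow_mem_C_of_central {x a z : G} (h : x * a * x⁻¹ = a * z) (hz : z ∈ Subgroup.center G) {k : ℕ}
    (hzk : z ^ k = 1) : x ^ k ∈ C a := by
  have := conj_pow_step h (Subgroup.mem_center_iff.1 hz x) k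
  rw [hzk, mul_one, mul_inv_eq_iff_eq_mul] at this
  exact mem_C.2 this

theorem comm_mem_C {x y a z w : G} (hx : x * a * x⁻¹ = a * z) (hy : y * a * y⁻¹ = a * w)
    (hz : z ∈ Subgroup.center G) (hw : w ∈ Subgroup.center G) : x * y * x⁻¹ * y⁻¹ ∈ C a := by
  have hz' := Subgroup.mem_center_iff.1 hz
  have hw' := Subgroup.mem_center_iff.1 hw
  have key : (x * y) * a * (x * y)⁻¹ = (y * x) * a * (y * x)⁻¹ := by
    calc (x * y) * a * (x * y)⁻¹ = x * (y * a * y⁻¹) * x⁻¹ := by group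
      _ = (x * a * x⁻¹) * (x * w * x⁻¹) := by rw [hy]; group
      _ = a * w * z := by rw [hx, hw' x, mul_inv_cancel_right, mul_assoc, ← hz' w, ← mul_assoc]
      _ = (y * a * y⁻¹) * (y * z * y⁻¹) := by rw [hy, hz' y, mul_inv_cancel_right]
      _ = y * (x * a * x⁻¹) * y⁻¹ := by rw [hx]; group
      _ = _ := by group
  have e : C ((x * y) * a * (x * y)⁻¹) = C a := by
    have : (x * y) * a * (x * y)⁻¹ = a * (w * z) := by
      calc (x * y) * a * (x * y)⁻¹ = x * (y * a * y⁻¹) * x⁻¹ := by group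
        _ = (x * a * x⁻¹) * (x * w * x⁻¹) := by rw [hy]; group
        _ = a * (w * z) := by rw [hx, hw' x, mul_inv_cancel_right, mul_assoc, ← hz' w]
    rw [this, C_mul_central (mul_mem hw hz)]
  rw [← e, mem_C_conj, mem_C]
  calc (x * y)⁻¹ * (x * y * x⁻¹ * y⁻¹) * (x * y) * a
      = (y * x)⁻¹ * ((x * y) * a * (x * y)⁻¹) * (x * y) := by group
    _ = (y * x)⁻¹ * ((y * x) * a * (y * x)⁻¹) * (x * y) := by rw [key]
    _ = _ := by group

theorem exists_mul_of_relIndex [Finite G] {K N : Subgroup G} (h : K.relIndex N = K.index) (g : G) :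
    ∃ n ∈ N, n⁻¹ * g ∈ K := by
  let f : N ⧸ K.subgroupOf N → G ⧸ K := Quotient.map' Subtype.val fun a b hab => by
    rw [QuotientGroup.leftRel_apply] at hab ⊢
    simpa [Subgroup.mem_subgroupOf] using hab
  have hf : Function.Injective f := by
    intro a b hab
    obtain ⟨a, rfl⟩ := QuotientGroup.mk_surjective a
    obtain ⟨b, rfl⟩ := QuotientGroup.mk_surjective b
    have hab' : (QuotientGroup.mk (a : G) : G ⧸ K) = QuotientGroup.mk (b : G) := hab
    rw [QuotientGroup.eq] at hab' ⊢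
    simpa [Subgroup.mem_subgroupOf] using hab'
  haveI : Fintype (N ⧸ K.subgroupOf N) := Fintype.ofFinite _
  obtain ⟨q, hq⟩ := ((Nat.bijective_iff_injective_and_card f).2 ⟨hf, h⟩).2 (QuotientGroup.mk g)
  obtain ⟨a, rfl⟩ := QuotientGroup.mk_surjective q
  exact ⟨a, a.2, QuotientGroup.eq.1 hq⟩

theorem center_le_Sp {u z : G} (hz : z ∈ Subgroup.center G) (hzp : PElt p z) : z ∈ Sp p u :=
  mem_Sp_of (center_le_C u hz) hzp

variable (D : Data G m n) [Finite G] [Fact p.Prime]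
include D

theorem Data.not_sylow_le_C (hpm : p ∣ m) {y : G} (hy : y ∉ Subgroup.center G) (P : Sylow p G) :
    ¬ (P : Subgroup G) ≤ C y := by
  intro h
  have hd := Subgroup.index_dvd_of_le h
  refine P.not_dvd_index ((?_ : p ∣ (C y).index).trans hd)
  rcases D.idx hy with e | e <;> rw [e]
  exacts [hpm, hpm.mul_right n]

theorem Data.exists_notMem_Sp (hpm : p ∣ m) {u : G} (hu : PElt p u) (huc : u ∉ Subgroup.center G)
    (P : Sylow p G) : ∃ x ∈ (P : Subgroup G), x ∉ Sp p u := by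
  by_contra h
  push Not at h
  exact D.not_sylow_le_C hpm huc P (fun x hx => Sp_le p u (h x hx))

theorem Data.nc_of_notMem_Sp (hpm : p ∣ m) (P : Sylow p G) {u x : G} (hx : x ∈ (P : Subgroup G))
    (hxS : x ∉ Sp p u) : x ∉ Subgroup.center G := fun h =>
  hxS (center_le_Sp h (PElt.of_mem Fact.out P.isPGroup' hx))

/-- An element of the Sylow subgroup centralizing a noncentral element of `Hp p u` lies in `Sp p u`. -/
theorem Data.mem_S_of_comm (hpm : p ∣ m) (P : Sylow p G) {u h x : G} (hu : PElt p u)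
    (huc : u ∉ Subgroup.center G) (hSP : Sp p u ≤ P) (hh : h ∈ Hp p u) (hhc : h ∉ Subgroup.center G)
    (hx : x ∈ (P : Subgroup G)) (hxh : x ∈ C h) : x ∈ Sp p u := by
  obtain ⟨-, hSc, -, hcomm⟩ := D.cent_struct hpm hu huc
  have := D.pSub_max hpm hhc hSc le_sup_left
    (P.isPGroup'.to_le (sup_le hSP (Subgroup.zpowers_le.2 hx)))
    (sup_le (fun a ha => mem_C.2 (hcomm a ha h hh)) (Subgroup.zpowers_le.2 hxh))
  exact this ▸ Subgroup.mem_sup_right (Subgroup.mem_zpowers x)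

theorem Data.central_of_comm (hpm : p ∣ m) (P : Sylow p G) {u h x s : G} (hu : PElt p u)
    (huc : u ∉ Subgroup.center G) (hSP : Sp p u ≤ P) (hh : h ∈ Hp p u) (hhc : h ∉ Subgroup.center G)
    (hx : x ∈ (P : Subgroup G)) (hxS : x ∉ Sp p u) (hs : s ∈ Sp p u) (hsx : x ∈ C s) :
    s ∈ Subgroup.center G := by
  by_contra hsc
  obtain ⟨hS, -, hH, hcomm⟩ := D.cent_struct hpm hu huc
  have hsp := PElt.of_mem Fact.out hS hs
  obtain ⟨-, -, -, hcomm'⟩ := D.cent_struct hpm hsp hsc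
  exact hxS (D.mem_S_of_comm hpm P hu huc hSP hh hhc hx (mem_C.2 (hcomm' x
    (mem_Sp_of hsx (PElt.of_mem Fact.out P.isPGroup' hx)) h
    (mem_Hp_of (mem_C.2 (hcomm s hs h hh).symm) (hH h hh)))))

theorem Data.exists_sylow_norm (hpm : p ∣ m) (hf : m.factorization p = 1) {u : G} (hu : PElt p u)
    (huc : u ∉ Subgroup.center G) :
    ∃ P : Sylow p G, Sp p u ≤ P ∧ (P : Subgroup G) ≤ Subgroup.normalizer ((C u : Subgroup G) : Set G) := by
  obtain ⟨P, hP⟩ := (D.cent_struct hpm hu huc).1.exists_le_sylow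
  exact ⟨P, hP, fun x hx => mem_normalizer_C (D.C_conj_eq hpm hf P hu huc hP hx)⟩

omit [Fact p.Prime] in
/-- A centralizer normalized by enough Sylow subgroups lies in the core of a centralizer of index `m`. -/
theorem Data.cent_le_core {u v : G} (hv : (C v).index = m) (hle : C u ≤ C v)
    (hsyl : ∀ l : ℕ, ∀ _ : Fact l.Prime, l ∣ m →
      ∃ Q : Sylow l G, (Q : Subgroup G) ≤ Subgroup.normalizer ((C u : Subgroup G) : Set G)) :
    C u ≤ (C v).normalCore := by
  set N := Subgroup.normalizer ((C u : Subgroup G) : Set G)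
  have hN : m.Coprime N.index := by
    refine Nat.coprime_of_dvd fun l hl hlm hlN => ?_
    obtain ⟨Q, hQ⟩ := hsyl l ⟨hl⟩ hlm
    haveI := Fact.mk hl
    exact Q.not_dvd_index (hlN.trans (Subgroup.index_dvd_of_le hQ))
  have hd : m ∣ (C v ⊓ N).index := hv ▸ Subgroup.index_dvd_of_le inf_le_left
  rw [← Subgroup.relIndex_mul_index (inf_le_right : C v ⊓ N ≤ N), Subgroup.inf_relIndex_right] at hd
  have hle' : (C v).relIndex N ≤ m := by
    have := Subgroup.relIndex_le_of_le_right (H := C v) (le_top : N ≤ ⊤)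
      (by rw [Subgroup.relIndex_top_right]; exact Subgroup.index_ne_zero_of_finite)
    rwa [Subgroup.relIndex_top_right, hv] at this
  have heq : (C v).relIndex N = (C v).index := hv.symm ▸ le_antisymm hle'
    (Nat.le_of_dvd (Nat.pos_of_ne_zero Subgroup.index_ne_zero_of_finite) (hN.dvd_of_dvd_mul_right hd))
  intro a ha b
  obtain ⟨k, hk, hkb⟩ := exists_mul_of_relIndex heq b⁻¹
  have h1 : k⁻¹ * a * k ∈ C u := by
    have := (Subgroup.mem_normalizer_iff.1 (inv_mem hk) a).1 ha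
    rwa [inv_inv] at this
  have h2 := mul_mem (mul_mem (inv_mem hkb) (hle h1)) hkb
  have e : (k⁻¹ * b⁻¹)⁻¹ * (k⁻¹ * a * k) * (k⁻¹ * b⁻¹) = b * a * b⁻¹ := by group
  rwa [e] at h2

theorem Data.inf_core (hpm : p ∣ m) (P : Sylow p G) {u v : G} (hu : PElt p u) (huc : u ∉ Subgroup.center G)
    (hvc : v ∉ Subgroup.center G) (hSP : Sp p u ≤ P) (h : C u ≤ (C v).normalCore) :
    (P : Subgroup G) ⊓ (C v).normalCore = Sp p u :=
  (D.pSub_max hpm hvc (D.cent_struct hpm hu huc).2.1 (le_inf hSP ((Sp_le p u).trans h))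
    (P.isPGroup'.to_le inf_le_left) (inf_le_right.trans (Subgroup.normalCore_le _))).symm

/-- `Sp p u` is generated by `u` modulo the centre when `p` divides `m` exactly. -/
theorem Data.one_line (hpm : p ∣ m) (hf : m.factorization p = 1) (P : Sylow p G) {u h : G} (hu : PElt p u)
    (huc : u ∉ Subgroup.center G) (hSP : Sp p u ≤ P) (hh : h ∈ Hp p u) (hhc : h ∉ Subgroup.center G)
    (X : Subgroup G) [X.Normal] (hX : (P : Subgroup G) ⊓ X = Sp p u) :
    u ^ p ∈ Subgroup.center G ∧ ∀ s ∈ Sp p u, ∃ i : ℕ, s * (u ^ i)⁻¹ ∈ Subgroup.center G := by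
  have hp : p.Prime := Fact.out
  obtain ⟨x, hx, hxS⟩ := D.exists_notMem_Sp hpm hu huc P
  obtain ⟨U, hU, hUx, hxU, hUc⟩ := D.exists_pSub hpm (D.nc_of_notMem_Sp hpm P hx hxS)
    (W := Subgroup.zpowers x) (PElt.of_mem hp P.isPGroup' hx).isPGroup_zpowers
    (Subgroup.zpowers_le.2 (self_mem_C x))
  obtain ⟨g, hg⟩ := exists_conj_mem_sylow P hU
  set U' := U.map (MulAut.conj g).toMonoidHom with hU'
  have hU'P : U' ≤ P := by rintro _ ⟨a, ha, rfl⟩; exact hg a ha
  have hU'c : Nat.card U' = pc G m p :=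
    (Subgroup.card_map_of_injective (MulAut.conj g).injective).trans hUc
  have hU'y : U' ≤ C (g * x * g⁻¹) := by
    rw [C_conj]; exact Subgroup.map_mono hUx
  have hy : g * x * g⁻¹ ∈ (P : Subgroup G) := hg x (hxU (Subgroup.mem_zpowers x))
  have hyS : g * x * g⁻¹ ∉ Sp p u := fun hm => hxS (hX ▸ ⟨hx, by
    have := Subgroup.Normal.conj_mem inferInstance _ (hX.symm ▸ hm :
      g * x * g⁻¹ ∈ (P : Subgroup G) ⊓ X).2 g⁻¹
    simpa [mul_assoc] using this⟩)
  have hcen : ∀ s ∈ Sp p u, s ∈ U' → s ∈ Subgroup.center G := fun s hs hs' =>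
    D.central_of_comm hpm P hu huc hSP hh hhc hy hyS hs (mem_C_comm.1 (hU'y hs'))
  haveI hn : (U'.subgroupOf (P : Subgroup G)).Normal :=
    ⟨fun a ha b => D.conj_mem hpm hf P hU'c hU'P b.2 ha⟩
  have hi : (U'.subgroupOf (P : Subgroup G)).index = p := by
    have h := (U'.subgroupOf (P : Subgroup G)).card_mul_index
    rw [Nat.card_congr (Subgroup.subgroupOfEquivOfLe hU'P).toEquiv, hU'c, D.card_P hpm P, hf, pow_one] at h
    exact Nat.eq_of_mul_eq_mul_left (pow_pos hp.pos _) h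
  have huS : u ∈ Sp p u := mem_Sp_of (self_mem_C u) hu
  refine ⟨hcen _ (pow_mem huS p) ?_, fun s hs => ?_⟩
  · have := Subgroup.pow_index_mem (U'.subgroupOf (P : Subgroup G)) ⟨u, hSP huS⟩
    rwa [hi, Subgroup.mem_subgroupOf] at this
  have hne : (QuotientGroup.mk (⟨u, hSP huS⟩ : (P : Subgroup G)) : _ ⧸ U'.subgroupOf (P : Subgroup G)) ≠ 1 :=
    fun e => huc (hcen u huS (Subgroup.mem_subgroupOf.1 ((QuotientGroup.eq_one_iff (N := U'.subgroupOf (P : Subgroup G)) _).1 e)))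
  obtain ⟨i, hi'⟩ := Submonoid.mem_powers_iff _ _ |>.1
    (mem_powers_of_prime_card (p := p) hi hne
      (g' := QuotientGroup.mk (⟨s, hSP hs⟩ : (P : Subgroup G))))
  refine ⟨i, hcen _ (mul_mem hs (inv_mem (pow_mem huS i))) ?_⟩
  have : (QuotientGroup.mk ((⟨s, hSP hs⟩ : (P : Subgroup G)) * (⟨u, hSP huS⟩ ^ i)⁻¹) :
      _ ⧸ U'.subgroupOf (P : Subgroup G)) = 1 := by
    rw [QuotientGroup.mk_mul, QuotientGroup.mk_inv, QuotientGroup.mk_pow, hi', mul_inv_cancel]
  exact Subgroup.mem_subgroupOf.1 ((QuotientGroup.eq_one_iff (N := U'.subgroupOf (P : Subgroup G)) _).1 this)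

theorem Data.dvd_sub_one (hpm : p ∣ m) (hf : m.factorization p = 1) [Fact r.Prime] (hrm : r ∣ m)
    (hfr : m.factorization r = 1) (hrp : r ≠ p) {u w v : G} (hu : PElt p u) (huc : u ∉ Subgroup.center G)
    (hw : PElt r w) (hwc : w ∉ Subgroup.center G) (huw : w ∈ C u) (hvc : v ∉ Subgroup.center G)
    (hcore : C u ≤ (C v).normalCore) : r ∣ p - 1 := by
  have hp : p.Prime := Fact.out
  have hr : r.Prime := Fact.out
  obtain ⟨hS, -, -, -⟩ := D.cent_struct hpm hu huc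
  obtain ⟨P, hSP⟩ := hS.exists_le_sylow
  obtain ⟨hup, hline⟩ := D.one_line hpm hf P hu huc hSP (mem_Hp_of huw (PElt.not_dvd hp hr hrp hw)) hwc
    _ (D.inf_core hpm P hu huc hvc hSP hcore)
  obtain ⟨R, hR, hRN⟩ := D.exists_sylow_norm hrm hfr hw hwc
  obtain ⟨y, hy, hyS⟩ := D.exists_notMem_Sp hrm hw hwc R
  have hC := D.pair_eq hpm hrm hrp hu huc hw hwc huw
  have hyu : y * u * y⁻¹ ∈ Sp p u := by
    refine mem_Sp_of ?_ (hu.conj y)
    rw [hC]
    exact (Subgroup.mem_normalizer_iff.1 (hRN hy) u).1 (hC ▸ self_mem_C u)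
  obtain ⟨k, hk⟩ := hline _ hyu
  set z := y * u * y⁻¹ * (u ^ k)⁻¹ with hz
  have hyk : y * u * y⁻¹ = u ^ k * z := by
    rw [Subgroup.mem_center_iff.1 hk, hz, inv_mul_cancel_right]
  have hkp : ¬ p ∣ k := by
    rintro ⟨j, rfl⟩
    refine huc ((conj_mem_center (g := y)).1 ?_)
    rw [hyk, pow_mul]
    exact mul_mem (pow_mem hup j) hk
  have hiter : ∀ i : ℕ, ∃ z' ∈ Subgroup.center G, y ^ i * u * (y ^ i)⁻¹ = u ^ (k ^ i) * z' := by
    intro i
    induction i with
    | zero => exact ⟨1, one_mem _, by simp⟩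
    | succ i ih =>
      obtain ⟨z', hz', e⟩ := ih
      refine ⟨z ^ (k ^ i) * z', mul_mem (pow_mem hk _) hz', ?_⟩
      calc y ^ (i + 1) * u * (y ^ (i + 1))⁻¹ = y * (y ^ i * u * (y ^ i)⁻¹) * y⁻¹ := by rw [pow_succ']; group
        _ = (y * u ^ (k ^ i) * y⁻¹) * (y * z' * y⁻¹) := by rw [e]; group
        _ = _ := by
          rw [← conj_pow, hyk, Subgroup.mem_center_iff.1 hz' y, mul_inv_cancel_right,
            (show Commute (u ^ k) z from Subgroup.mem_center_iff.1 hk _).mul_pow, ← pow_mul, ← pow_succ',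
            mul_assoc]
  obtain ⟨z', hz', e⟩ := hiter (p - 1)
  have h1 : k ^ (p - 1) % p = 1 := by
    have := (Nat.ModEq.pow_totient ((hp.coprime_iff_not_dvd.2 hkp).symm))
    rw [Nat.totient_prime hp] at this
    rwa [Nat.ModEq, Nat.mod_eq_of_lt hp.one_lt] at this
  obtain ⟨z0, hz0, e0⟩ : ∃ z0 ∈ Subgroup.center G, y ^ (p - 1) * u * (y ^ (p - 1))⁻¹ = u * z0 := by
    refine ⟨(u ^ p) ^ (k ^ (p - 1) / p) * z', mul_mem (pow_mem hup _) hz', ?_⟩
    rw [e, ← mul_assoc, ← pow_mul, ← pow_succ']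
    congr 2
    have := Nat.div_add_mod (k ^ (p - 1)) p
    omega
  obtain ⟨b, hb⟩ := hu
  have hzb : z0 ^ (p ^ b) = 1 := by
    have h2 : (y ^ (p - 1) * u * (y ^ (p - 1))⁻¹) ^ (p ^ b) = 1 := by
      rw [conj_pow, ← hb, pow_orderOf_eq_one, mul_one, mul_inv_cancel]
    rwa [e0, (show Commute u z0 from Subgroup.mem_center_iff.1 hz0 u).mul_pow, ← hb, pow_orderOf_eq_one,
      one_mul, hb] at h2
  have hmem : y ^ ((p - 1) * p ^ b) ∈ C u := by
    rw [pow_mul]; exact pow_mem_C_of_central e0 hz0 hzb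
  by_contra hnd
  have hcop : ((p - 1) * p ^ b).Coprime (orderOf y) := by
    obtain ⟨c, hc⟩ := PElt.of_mem hr R.isPGroup' hy
    rw [hc]
    exact ((hr.coprime_iff_not_dvd.2 fun h => (hr.dvd_mul.1 h).elim hnd
      fun h2 => hrp ((Nat.prime_dvd_prime_iff_eq hr hp).1 (hr.dvd_of_dvd_pow h2))).symm).pow_right c
  obtain ⟨t, ht⟩ := exists_pow_eq_self_of_coprime hcop
  exact hyS (mem_Sp_of (hC ▸ ht ▸ pow_mem hmem t) (PElt.of_mem hr R.isPGroup' hy))

omit [Fact p.Prime] in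
theorem Data.exists_pPrime_m (hp : p.Prime) (hpm : p ∣ m)
    (hT : ∀ a : G, PElt p a → a ∉ Subgroup.center G → (C a).index = m * n) :
    ∃ v : G, (C v).index = m ∧ ¬ p ∣ orderOf v := by
  obtain ⟨v0, hv0⟩ := D.exM
  obtain ⟨a, b, rfl, hab, ha, hb, -, -⟩ := split hp v0
  have hac : a ∈ Subgroup.center G := by
    by_contra hac
    have e := D.idx_m_of_le hac hv0 ((C_mul hab (ha.coprime hp hb)).le.trans inf_le_left)
    have := hT a ha hac
    rw [← e, hv0] at this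
    exact D.m_ne_mn this
  refine ⟨b, ?_, hb⟩
  rwa [hab, C_mul_central hac] at hv0

/-- Only one prime divides `m`. -/
theorem Data.one_prime {q : ℕ} (hpm : p ∣ m) (hq : q.Prime) (hqm : q ∣ m) : q = p := by
  by_contra hqp
  haveI := Fact.mk hq
  have hf : ∀ l : ℕ, ∀ _ : Fact l.Prime, l ∣ m → m.factorization l = 1 := by
    intro l hl hlm
    obtain ⟨P⟩ := (inferInstance : Nonempty (Sylow l G))
    refine (D.fact_one_or hlm P).resolve_right ?_
    rintro ⟨j, -, hjc, -, -, -, hcen⟩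
    have h1 := (D.big hlm hjc hcen).1
    exact hqp ((h1 q hq hqm).trans (h1 p Fact.out hpm).symm)
  suffices h : ∀ (l l' : ℕ) (_ : Fact l.Prime) (_ : Fact l'.Prime), l ∣ m → l' ∣ m → l' ≠ l →
      ∀ u w v : G, PElt l u → u ∉ Subgroup.center G → PElt l' w → w ∉ Subgroup.center G → w ∈ C u →
      (C v).index = m → C u ≤ C v → False by
    by_cases hL : ∃ (l : ℕ) (_ : Fact l.Prime) (u : G), l ∣ m ∧ PElt l u ∧ (C u).index = m
    · obtain ⟨l, hl, u, hlm, hu, hui⟩ := hL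
      obtain ⟨l', hl', hl'm, hne⟩ : ∃ l', Fact l'.Prime ∧ l' ∣ m ∧ l' ≠ l := by
        by_cases hlp : l = p
        · exact ⟨q, ⟨hq⟩, hqm, hlp ▸ hqp⟩
        · exact ⟨p, inferInstance, hpm, Ne.symm hlp⟩
      have huc := D.nc_of_idx (Or.inl hui)
      obtain ⟨w, hw, hwl, hwc⟩ := D.exists_pElt_in hl'm huc
      exact h l l' hl hl' hlm hl'm hne u w u hu huc hwl hwc hw hui le_rfl
    push Not at hL
    obtain ⟨v, hv, hvp⟩ := D.exists_pPrime_m Fact.out hpm fun a ha hac =>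
      (D.idx hac).resolve_left (hL p inferInstance a hpm ha)
    obtain ⟨u, hu, hup, huc⟩ := D.exists_pElt_in hpm (D.nc_of_idx (Or.inl hv))
    obtain ⟨w, hw, hwq, hwc⟩ := D.exists_pElt_in hqm huc
    exact h p q inferInstance inferInstance hpm hqm hqp u w v hup huc hwq hwc hw hv
      (D.cent_le_T hpm hup ((D.idx huc).resolve_left (hL p inferInstance u hpm hup)) (mem_C_comm.1 hu) hvp)
  intro l l' hl hl' hlm hl'm hne u w v hu huc hw hwc huw hv hle
  have hC := D.pair_eq hlm hl'm hne hu huc hw hwc huw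
  have hsyl : ∀ k : ℕ, ∀ _ : Fact k.Prime, k ∣ m →
      ∃ Q : Sylow k G, (Q : Subgroup G) ≤ Subgroup.normalizer ((C u : Subgroup G) : Set G) := by
    intro k hk hkm
    by_cases hkl : k = l
    · subst hkl
      exact (D.exists_sylow_norm hkm (hf k hk hkm) hu huc).imp fun _ h => h.2
    obtain ⟨c, hc, hck, hcc⟩ := D.exists_pElt_in hkm huc
    rw [D.pair_eq hlm hkm hkl hu huc hck hcc hc]
    exact (D.exists_sylow_norm hkm (hf k hk hkm) hck hcc).imp fun _ h => h.2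
  have hvc := D.nc_of_idx (Or.inl hv)
  have hcore := D.cent_le_core hv hle hsyl
  have h1 := D.dvd_sub_one hlm (hf l hl hlm) hl'm (hf l' hl' hl'm) hne hu huc hw hwc huw hvc hcore
  have h2 := D.dvd_sub_one hl'm (hf l' hl' hl'm) hlm (hf l hl hlm) hne.symm hw hwc hu huc
    (mem_C_comm.1 huw) hvc (hC ▸ hcore)
  have := (Fact.out : l.Prime).two_le
  have := (Fact.out : l'.Prime).two_le
  have := Nat.le_of_dvd (by omega) h1
  have := Nat.le_of_dvd (by omega) h2
  omega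

end CfsgLib.OneMMN
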