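import Cfsg.Agent.OneMMN.Complement

/-!
Class sizes `1, m, m n` with coprime `m, n > 1`: the structure of the group.
-/

set_option autoImplicit false

namespace CfsgLib.OneMMN

open scoped commutatorElement

variable {G : Type*} [Group G] {m n p a : ℕ}

theorem card_modEq_of_free [Finite G] [Fact p.Prime] (H Z : Subgroup G) {x : G} (hx : PElt p x)
    (hxH : x ∈ Subgroup.normalizer (H : Set G)) (hfix : ∀ h ∈ H, x * h = h * x ↔ h ∈ Z) :
    Nat.card H ≡ Nat.card (H ⊓ Z : Subgroup G) [MOD p] := by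
  let φ : Subgroup.zpowers x →* MulAut H :=
    (Subgroup.normalizerMonoidHom H).comp (Subgroup.inclusion (Subgroup.zpowers_le.2 hxH))
  letI : MulAction (Subgroup.zpowers x) H := MulAction.compHom H φ
  have happ : ∀ (y : Subgroup.zpowers x) (h : H), ((y • h : H) : G) = y.1 * h.1 * y.1⁻¹ := fun y h => rfl
  have h := (PElt.isPGroup_zpowers hx).card_modEq_card_fixedPoints H
  suffices e : Nat.card (MulAction.fixedPoints (Subgroup.zpowers x) H) = Nat.card (H ⊓ Z : Subgroup G) from e ▸ h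
  refine Nat.card_congr
    { toFun := fun h => ⟨h.1.1, h.1.2, (hfix _ h.1.2).1 ?_⟩
      invFun := fun h => ⟨⟨h.1, h.2.1⟩, ?_⟩
      left_inv := fun _ => rfl
      right_inv := fun _ => rfl }
  · have := congrArg Subtype.val (h.2 ⟨x, Subgroup.mem_zpowers x⟩)
    rw [happ] at this
    exact mul_inv_eq_iff_eq_mul.1 this
  · rintro ⟨y, i, rfl⟩
    refine Subtype.ext ?_
    rw [happ]
    exact mul_inv_eq_iff_eq_mul.2 ((show Commute x h.1 from (hfix _ h.2.1).2 h.2.2).zpow_left i).eq

variable (D : Data G m n) [Finite G]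
include D

theorem Data.exists_prime_pow : ∃ p : ℕ, Fact p.Prime ∧ p ∣ m ∧ m = p ^ m.factorization p := by
  obtain ⟨p, hp, hpm⟩ := Nat.exists_prime_and_dvd D.one_lt_m.ne'
  haveI := Fact.mk hp
  refine ⟨p, ⟨hp⟩, hpm, ?_⟩
  have h := Nat.eq_prime_pow_of_unique_prime_dvd D.m_ne_zero (p := p) fun {d} hd hdm => D.one_prime hpm hd hdm
  have e : m.factorization p = m.primeFactorsList.length := by
    conv_lhs => rw [h]
    rw [hp.factorization_pow, Finsupp.single_eq_same]
  rwa [e]

variable [Fact p.Prime]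

theorem Data.fact_eq_one (hpm : p ∣ m) (hm : m = p ^ m.factorization p) : m.factorization p = 1 := by
  have hp : p.Prime := Fact.out
  obtain ⟨P⟩ := (inferInstance : Nonempty (Sylow p G))
  rcases D.fact_one_or hpm P with hf | ⟨j, hjP, hjc, hSjP, hpow, hcom, hcen⟩
  · exact hf
  obtain ⟨hL, u, hu, hui⟩ := D.exists_good hpm hm
  haveI hn := D.C_normal hpm hm hL hu hui
  have huc := D.nc_of_idx (Or.inl hui)
  obtain ⟨hS, hSc, hH, hcomm⟩ := D.cent_struct hpm hu huc
  obtain ⟨hSj, -, -, hjcomm⟩ := D.cent_struct hpm (PElt.of_mem hp P.isPGroup' hjP) hjc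
  obtain ⟨h0, hh0, hh0c⟩ := D.exists_nc_Hp hpm hm hu hui
  have hnorm : ∀ g : G, ∀ s ∈ Sp p u, g * s * g⁻¹ ∈ Sp p u := fun g s hs =>
    mem_Sp_of (hn.conj_mem s (Sp_le p u hs) g) ((PElt.of_mem hp hS hs).conj g)
  have hSP : Sp p u ≤ P := by
    obtain ⟨Q, hQ⟩ := hS.exists_le_sylow
    obtain ⟨g, rfl⟩ := MulAction.exists_smul_eq G Q P
    intro s hs
    rw [Sylow.coe_subgroup_smul]
    have := Subgroup.smul_mem_pointwise_smul _ (MulAut.conj g) _ (hQ (hnorm g⁻¹ s hs))
    simpa [mul_assoc] using this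
  have hint : ∀ s ∈ Sp p u, s ∈ Sp p j → s ∈ Subgroup.center G := by
    intro s hs hsj
    by_contra hsc
    obtain ⟨-, -, -, hs'⟩ := D.cent_struct hpm (PElt.of_mem hp hS hs) hsc
    refine hh0c (hcen h0 (mem_C.2 ?_) (hH h0 hh0))
    exact (hs' j (mem_Sp_of (mem_C_comm.1 (Sp_le p j hsj)) (PElt.of_mem hp P.isPGroup' hjP)) h0
      (mem_Hp_of (mem_C.2 (hcomm s hs h0 hh0).symm) (hH h0 hh0))).symm
  have huS := mem_Sp_of (self_mem_C u) hu
  have hup : u ^ p ∈ Subgroup.center G := hint _ (pow_mem huS p) (hpow u (hSP huS))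
  have hz : ∀ x ∈ (P : Subgroup G), ∃ z ∈ Subgroup.center G, x * u * x⁻¹ = u * z ∧ z ^ p = 1 := by
    intro x hx
    have hc := hint (x * u * x⁻¹ * u⁻¹) (mul_mem (hnorm x u huS) (inv_mem huS)) (hcom x hx u (hSP huS))
    refine ⟨_, hc, by rw [Subgroup.mem_center_iff.1 hc u, inv_mul_cancel_right], ?_⟩
    have h1 : (x * u * x⁻¹) ^ p = u ^ p := by
      rw [conj_pow, Subgroup.mem_center_iff.1 hup x, mul_inv_cancel_right]
    rwa [show x * u * x⁻¹ = u * (x * u * x⁻¹ * u⁻¹) by rw [Subgroup.mem_center_iff.1 hc u, inv_mul_cancel_right],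
      (show Commute u _ from Subgroup.mem_center_iff.1 hc u).mul_pow, mul_eq_left] at h1
  have hle := card_le_of_semiregular (p := p) (P : Subgroup G) (Sp p u) (Hp p u) P.isPGroup' hSP ?_ hH hcomm
    (fun x hx => by
      obtain ⟨z, hz', e, hzp⟩ := hz x hx
      exact mem_Sp_of (pow_mem_C_of_central e hz' hzp) (PElt.of_mem hp P.isPGroup' (pow_mem hx p)))
    (fun x hx y hy => by
      obtain ⟨z, hz', e, -⟩ := hz x hx
      obtain ⟨w, hw', e', -⟩ := hz y hy
      exact mem_Sp_of (comm_mem_C e e' hz' hw')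
        (PElt.of_mem hp P.isPGroup' (mul_mem (mul_mem (mul_mem hx hy) (inv_mem hx)) (inv_mem hy))))
    (fun x hx hxS h hh hxh => by
      by_contra hhc
      exact hxS (D.mem_S_of_comm hpm P hu huc hSP hh hhc hx (mem_C.2 hxh)))
    ⟨h0, hh0, hh0c⟩
  · rw [D.card_P hpm P, hSc, mul_comm] at hle
    have h2 := Nat.le_of_mul_le_mul_right hle (pow_pos hp.pos _)
    have := hp.factorization_pos_of_dvd D.m_ne_zero hpm
    have := (Nat.pow_le_pow_iff_right hp.one_lt).1 (h2.trans (pow_one p).ge)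
    omega
  · intro x _
    rw [Subgroup.mem_normalizer_iff]
    intro h
    exact ⟨fun hh => mem_Hp_of (hn.conj_mem h (Hp_le p u hh) x) (by rw [orderOf_conj]; exact hH h hh),
      fun hh => by
        have := mem_Hp_of (hn.conj_mem _ (Hp_le p u hh) x⁻¹) (p := p) (by rw [orderOf_conj]; exact hH _ hh)
        simpa [mul_assoc] using this⟩

/-- The structure of the group. -/
theorem Data.main : m.Prime ∧ m ∣ n - 1 ∧
    (∃ M : Subgroup G, M.Normal ∧ (M : Set G) = {x : G | (C x).index = 1 ∨ (C x).index = m} ∧ M.index = m ∧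
      IsMulCommutative M) ∧
    (∃ N : Subgroup G, N.Normal ∧ (Nat.card N).Coprime m ∧ ∃ a : ℕ, N.index = m ^ a) ∧
    ∀ P : Sylow m G, Nat.card (commutator (P : Subgroup G)) = m := by
  obtain ⟨q, hq, hqm, hm⟩ := D.exists_prime_pow
  have hf := D.fact_eq_one hqm hm
  rw [hf, pow_one] at hm
  subst hm
  have hp : m.Prime := hq.out
  obtain ⟨hL, u, hu, hui⟩ := D.exists_good dvd_rfl (pow_one m).symm
  haveI hn := D.C_normal dvd_rfl (pow_one m).symm hL hu hui
  have hab := D.hp_comm dvd_rfl (pow_one m).symm hL hu hui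
  obtain ⟨hG, hHi⟩ := D.card_G dvd_rfl (pow_one m).symm hu hui
  have huc := D.nc_of_idx (Or.inl hui)
  obtain ⟨hS, hSc, hH, hcomm⟩ := D.cent_struct dvd_rfl hu huc
  obtain ⟨h0, hh0, hh0c⟩ := D.exists_nc_Hp dvd_rfl (pow_one m).symm hu hui
  have hSn : ∀ g : G, ∀ s ∈ Sp m u, g * s * g⁻¹ ∈ Sp m u := fun g s hs =>
    mem_Sp_of (hn.conj_mem s (Sp_le m u hs) g) ((PElt.of_mem hp hS hs).conj g)
  haveI hHn : (Hp m u).Normal :=
    ⟨fun h hh g => mem_Hp_of (hn.conj_mem h (Hp_le m u hh) g) (by rw [orderOf_conj]; exact hH h hh)⟩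
  have hHall : ∀ g : G, ¬ m ∣ orderOf g → g ∈ Hp m u := fun g hg =>
    mem_of_pow_mem (Subgroup.pow_index_mem (Hp m u) g) (D.coprime_index_Hp dvd_rfl (pow_one m).symm hu hui hg)
  have hsyl : ∀ P : Sylow m G, Sp m u ≤ P := by
    intro P
    obtain ⟨Q, hQ⟩ := hS.exists_le_sylow
    obtain ⟨g, rfl⟩ := MulAction.exists_smul_eq G Q P
    intro s hs
    rw [Sylow.coe_subgroup_smul]
    have := Subgroup.smul_mem_pointwise_smul _ (MulAut.conj g) _ (hQ (hSn g⁻¹ s hs))
    simpa [mul_assoc] using this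
  -- `Sp m u` is `u` times central elements
  obtain ⟨P0⟩ := (inferInstance : Nonempty (Sylow m G))
  have hPX : (P0 : Subgroup G) ⊓ C u = Sp m u :=
    (D.pSub_max dvd_rfl huc hSc (le_inf (hsyl P0) (Sp_le m u)) (P0.isPGroup'.to_le inf_le_left) inf_le_right).symm
  obtain ⟨hup, hline⟩ := D.one_line dvd_rfl hf P0 hu huc (hsyl P0) hh0 hh0c (C u) hPX
  have hKab : ∀ x ∈ C u, ∀ y ∈ C u, x * y = y * x := by
    have hSab : ∀ s ∈ Sp m u, ∀ t ∈ Sp m u, Commute s t := by
      intro s hs t ht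
      obtain ⟨i, hi⟩ := hline s hs
      obtain ⟨k, hk⟩ := hline t ht
      have es : s = s * (u ^ i)⁻¹ * u ^ i := (inv_mul_cancel_right _ _).symm
      have et : t = t * (u ^ k)⁻¹ * u ^ k := (inv_mul_cancel_right _ _).symm
      rw [es, et]
      exact ((show Commute _ _ from Subgroup.mem_center_iff.1 hk _).mul_right
        (((show Commute (u ^ k) _ from Subgroup.mem_center_iff.1 hi _).symm).mul_left
          ((Commute.refl u).pow_pow i k)))
    intro x hx y hy
    obtain ⟨a, ha, b, hb, rfl⟩ := cent_split (p := m) hp hx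
    obtain ⟨c, hc, d, hd, rfl⟩ := cent_split (p := m) hp hy
    exact (((hSab a ha c hc).mul_right (hcomm a ha d hd)).mul_left
      ((show Commute b c from (hcomm c hc b hb).symm).mul_right (hab b hb d hd))).eq
  have hfree : ∀ P : Sylow m G, ∀ x ∈ (P : Subgroup G), x ∉ Sp m u → ∀ h ∈ Hp m u,
      x * h = h * x → h ∈ Subgroup.center G := by
    intro P x hx hxS h hh hxh
    by_contra hhc
    exact hxS (D.mem_S_of_comm dvd_rfl P hu huc (hsyl P) hh hhc hx (mem_C.2 hxh))
  obtain ⟨x, hx, hxS⟩ := D.exists_notMem_Sp dvd_rfl hu huc P0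
  have hxp := PElt.of_mem hp P0.isPGroup' hx
  have hxc := D.nc_of_notMem_Sp dvd_rfl P0 hx hxS
  refine ⟨hp, ?_, ⟨C u, hn, ?_, hui, ⟨⟨fun a b => Subtype.ext (hKab a a.2 b b.2)⟩⟩⟩, ?_, ?_⟩
  · -- counting fixed points
    have hZ : Hp m x = Hp m u ⊓ Subgroup.center G := by
      refine le_antisymm ((Subgroup.closure_le _).2 fun z hz => ⟨hHall z hz.2, hfree P0 x hx hxS z
        (hHall z hz.2) (mem_C.1 (mem_C_comm.1 hz.1))⟩) fun z hz => ?_
      exact mem_Hp_of (center_le_C x hz.2) (hH z hz.1)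
    have hxT : (C x).index = m * n := (D.big dvd_rfl hxc fun z hz hzp =>
      hfree P0 x hx hxS z (hHall z hzp) (mem_C.1 (mem_C_comm.1 hz))).2.1
    have h := (C x).card_mul_index
    rw [hxT, D.card_C dvd_rfl hxp hxc, hZ, hG, pow_one] at h
    have hc : Nat.card (Hp m u) = Nat.card (Hp m u ⊓ Subgroup.center G : Subgroup G) * n :=
      Nat.eq_of_mul_eq_mul_left (Nat.mul_pos (pow_pos hp.pos _) hp.pos) ((mul_comm _ _).trans
        (h.symm.trans (by simp only [pc]; ring)))
    have hmod := card_modEq_of_free (Hp m u) (Subgroup.center G) hxp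
      ((Subgroup.normalizer_eq_top (H := Hp m u)) ▸ trivial)
      fun h hh => ⟨hfree P0 x hx hxS h hh, fun hc => Subgroup.mem_center_iff.1 hc x⟩
    rw [hc] at hmod
    have hcop : Nat.gcd m (Nat.card (Hp m u ⊓ Subgroup.center G : Subgroup G)) = 1 :=
      hp.coprime_iff_not_dvd.2 fun hd => D.not_dvd_card_Hp dvd_rfl hu huc
        (hd.trans (Subgroup.card_dvd_of_le inf_le_left))
    nth_rewrite 2 [← mul_one (Nat.card (Hp m u ⊓ Subgroup.center G : Subgroup G))] at hmod
    exact (Nat.modEq_iff_dvd' D.one_lt_n.le).1 (hmod.cancel_left_of_coprime hcop).symm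
  · ext g
    refine ⟨fun hg => ?_, fun hg => ?_⟩
    · have hd := Subgroup.index_dvd_of_le (fun y hy => mem_C.2 (hKab y hy g hg) : C u ≤ C g)
      rw [hui] at hd
      exact (Nat.dvd_prime hp).1 hd
    show g ∈ C u
    rcases hg with hg | hg
    · exact center_le_C u (idx_eq_one_iff.1 hg)
    obtain ⟨a, b, rfl, hc, ha, hb, haz, -⟩ := split hp g
    refine mul_mem ?_ (Hp_le m u (hHall b hb))
    have hHg : Hp m u ≤ C (a * b) := by
      refine Subgroup.relIndex_eq_one.1 (Nat.eq_one_of_dvd_coprimes ?_ (Subgroup.relIndex_dvd_card _ _)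
        (hg ▸ ClassSize.relIndex_dvd_index_of_normal (Hp m u) (C (a * b))))
      exact ((Fact.out : m.Prime).coprime_iff_not_dvd.2 (D.not_dvd_card_Hp dvd_rfl hu huc)).symm
    obtain ⟨P, hP⟩ := (PElt.isPGroup_zpowers ha).exists_le_sylow
    by_contra haS
    refine hh0c (hfree P a (hP (Subgroup.mem_zpowers a)) (fun h => haS (Sp_le m u h)) h0 hh0 ?_)
    exact (mem_C.1 (C_le_of_mem_zpowers haz (hHg hh0))).symm
  · refine ⟨Hp m u, hHn, ((Fact.out : m.Prime).coprime_iff_not_dvd.2 (D.not_dvd_card_Hp dvd_rfl hu huc)).symm, ?_⟩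
    exact ⟨(Nat.card G).factorization m - m.factorization m + 1, by rw [hHi, pc, pow_add]⟩
  intro P
  obtain ⟨x, hx, hxS⟩ := D.exists_notMem_Sp dvd_rfl hu huc P
  have huS := mem_Sp_of (self_mem_C u) hu
  have huP := hsyl P huS
  -- `P` is generated by `x` and `Sp m u`
  have hgen : Subgroup.zpowers x ⊔ Sp m u = P := by
    have hle : Subgroup.zpowers x ⊔ Sp m u ≤ P := sup_le (Subgroup.zpowers_le.2 hx) (hsyl P)
    refine eq_of_le_of_card hle ?_
    obtain ⟨k, hk⟩ := Subgroup.card_dvd_of_le (le_sup_right : Sp m u ≤ Subgroup.zpowers x ⊔ Sp m u)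
    have hd := Subgroup.card_dvd_of_le hle
    rw [hk, D.card_P dvd_rfl P, hf, pow_one, hSc] at hd
    rw [hk, D.card_P dvd_rfl P, hf, pow_one, hSc]
    rcases (Nat.dvd_prime hp).1 ((Nat.mul_dvd_mul_iff_left (pow_pos hp.pos _)).1 hd) with h1 | h1
    · exfalso
      rw [h1, mul_one] at hk
      exact hxS ((eq_of_le_of_card (le_sup_right : Sp m u ≤ Subgroup.zpowers x ⊔ Sp m u) hk.symm).ge
        (Subgroup.mem_sup_left (Subgroup.mem_zpowers x)))
    · rw [h1]
  obtain ⟨k, hk⟩ := hline _ (hSn x u huS)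
  set z := x * u * x⁻¹ * (u ^ k)⁻¹ with hz
  have hyk : x * u * x⁻¹ = u ^ k * z := by
    rw [Subgroup.mem_center_iff.1 hk, hz, inv_mul_cancel_right]
  have hiter : ∀ i : ℕ, ∃ z' ∈ Subgroup.center G, x ^ i * u * (x ^ i)⁻¹ = u ^ (k ^ i) * z' := by
    intro i
    induction i with
    | zero => exact ⟨1, one_mem _, by simp⟩
    | succ i ih =>
      obtain ⟨z', hz', e⟩ := ih
      refine ⟨z ^ (k ^ i) * z', mul_mem (pow_mem hk _) hz', ?_⟩
      calc x ^ (i + 1) * u * (x ^ (i + 1))⁻¹ = x * (x ^ i * u * (x ^ i)⁻¹) * x⁻¹ := by rw [pow_succ']; group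
        _ = (x * u ^ (k ^ i) * x⁻¹) * (x * z' * x⁻¹) := by rw [e]; group
        _ = _ := by
          rw [← conj_pow, hyk, Subgroup.mem_center_iff.1 hz' x, mul_inv_cancel_right,
            (show Commute (u ^ k) z from Subgroup.mem_center_iff.1 hk _).mul_pow, ← pow_mul, ← pow_succ',
            mul_assoc]
  -- `c = [x, u]` is central of order `m`
  set c := x * u * x⁻¹ * u⁻¹ with hc
  have hcc : c ∈ Subgroup.center G := by
    obtain ⟨z', hz', e⟩ := hiter m
    have hxm : Commute (x ^ m) u := hKab _ (hui ▸ Subgroup.pow_index_mem (C u) x) u (self_mem_C u)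
    rw [hxm.eq, mul_inv_cancel_right] at e
    have hk1 : (k : ZMod m) = 1 := by
      by_contra hne
      have h1 : u ^ (((k ^ m : ℕ) : ℤ) - 1) ∈ Subgroup.center G := by
        rw [zpow_sub_one, zpow_natCast, show u ^ k ^ m = u * z'⁻¹ by rw [eq_mul_inv_iff_mul_eq, ← e],
          Subgroup.mem_center_iff.1 (inv_mem hz') u, mul_inv_cancel_right]
        exact inv_mem hz'
      have h2 : IsCoprime (((k ^ m : ℕ) : ℤ) - 1) (m : ℤ) := by
        refine ((Nat.prime_iff_prime_int.1 hp).coprime_iff_not_dvd.2 fun hd => hne ?_).symm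
        rw [← ZMod.intCast_zmod_eq_zero_iff_dvd] at hd
        simpa [sub_eq_zero, ZMod.pow_card] using hd
      obtain ⟨s, t, hst⟩ := h2
      refine huc ?_
      rw [← zpow_one u, ← hst, zpow_add, mul_comm s, mul_comm t, zpow_mul, zpow_mul, zpow_natCast]
      exact mul_mem (zpow_mem h1 _) (zpow_mem hup _)
    have h1 : k % m = 1 := by
      have := congrArg ZMod.val hk1
      rwa [ZMod.val_natCast, ZMod.val_one] at this
    have e1 : c = (u ^ m) ^ (k / m) * z := by
      have : u ^ k = (u ^ m) ^ (k / m) * u := by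
        rw [← pow_mul, ← pow_succ]
        congr 1
        have := Nat.div_add_mod k m
        omega
      rw [hc, hyk, this, mul_assoc _ u z, Subgroup.mem_center_iff.1 hk u, mul_assoc, mul_inv_cancel_right]
    rw [e1]
    exact mul_mem (pow_mem hup _) hk
  have hxu : x * u * x⁻¹ = u * c := by rw [Subgroup.mem_center_iff.1 hcc u, hc, inv_mul_cancel_right]
  have hcm : c ^ m = 1 := by
    have h1 : (x * u * x⁻¹) ^ m = u ^ m := by
      rw [conj_pow, Subgroup.mem_center_iff.1 hup x, mul_inv_cancel_right]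
    rwa [hxu, (show Commute u c from Subgroup.mem_center_iff.1 hcc u).mul_pow, mul_eq_left] at h1
  have hc1 : c ≠ 1 := by
    intro h1
    rw [h1, mul_one, mul_inv_eq_iff_eq_mul] at hxu
    exact hxS (mem_Sp_of (mem_C.2 hxu) (PElt.of_mem hp P.isPGroup' hx))
  set Z0 := Subgroup.zpowers c
  haveI : Z0.Normal := ⟨fun y hy g => by
    rw [Subgroup.mem_center_iff.1 ((Subgroup.zpowers_le.2 hcc) hy) g, mul_inv_cancel_right]; exact hy⟩
  let π := QuotientGroup.mk' Z0
  have hcomm' : ∀ y ∈ (P : Subgroup G), ∀ w ∈ (P : Subgroup G), π y * π w = π w * π y := by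
    have hxu' : Commute (π x) (π u) := by
      show π x * π u = π u * π x
      rw [← map_mul, ← map_mul, show x * u = c * (u * x) by rw [hc]; group, map_mul,
        show π c = 1 from (QuotientGroup.eq_one_iff c).2 (Subgroup.mem_zpowers c), one_mul]
    have hxs : ∀ s ∈ Sp m u, Commute (π x) (π s) := by
      intro s hs
      obtain ⟨i, hi⟩ := hline s hs
      rw [show s = s * (u ^ i)⁻¹ * u ^ i from (inv_mul_cancel_right _ _).symm, map_mul π, map_pow]
      exact (Commute.map (Subgroup.mem_center_iff.1 hi x) π).mul_right (hxu'.pow_right i)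
    have key : ∀ w ∈ (P : Subgroup G), Commute (π x) (π w) ∧ ∀ s ∈ Sp m u, Commute (π s) (π w) := by
      intro w hw
      rw [← hgen, ← Subgroup.closure_eq (Subgroup.zpowers x), ← Subgroup.closure_eq (Sp m u),
        ← Subgroup.closure_union] at hw
      induction hw using Subgroup.closure_induction with
      | mem w hw =>
        rcases hw with hw | hw
        · obtain ⟨i, rfl⟩ := hw
          refine ⟨?_, fun s hs => ?_⟩ <;> simp only [map_zpow]
          · exact Commute.self_zpow _ i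
          · exact (hxs s hs).symm.zpow_right i
        · exact ⟨hxs w hw, fun s hs => Commute.map (hKab s (Sp_le m u hs) w (Sp_le m u hw)) π⟩
      | one => simp
      | mul a b _ _ ha hb =>
        simp only [map_mul]
        exact ⟨ha.1.mul_right hb.1, fun s hs => (ha.2 s hs).mul_right (hb.2 s hs)⟩
      | inv a _ ha =>
        simp only [map_inv]
        exact ⟨ha.1.inv_right, fun s hs => (ha.2 s hs).inv_right⟩
    intro y hy w hw
    rw [← hgen, ← Subgroup.closure_eq (Subgroup.zpowers x), ← Subgroup.closure_eq (Sp m u),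
      ← Subgroup.closure_union] at hy
    refine Commute.eq ?_
    induction hy using Subgroup.closure_induction with
    | mem y hy =>
      rcases hy with hy | hy
      · obtain ⟨i, rfl⟩ := hy
        rw [map_zpow]
        exact (key w hw).1.zpow_left i
      · exact (key w hw).2 y hy
    | one => rw [map_one]; exact Commute.one_left _
    | mul a b _ _ ha hb => rw [map_mul]; exact ha.mul_left hb
    | inv a _ ha => rw [map_inv]; exact ha.inv_left
  have hle : (commutator (P : Subgroup G)).map (P : Subgroup G).subtype ≤ Z0 := by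
    rw [Subgroup.map_le_iff_le_comap, commutator_def, Subgroup.commutator_le]
    intro a _ b _
    rw [Subgroup.mem_comap, map_commutatorElement, ← QuotientGroup.eq_one_iff]
    show π _ = 1
    rw [map_commutatorElement, commutatorElement_eq_one_iff_mul_comm]
    exact hcomm' a a.2 b b.2
  have hge : Z0 ≤ (commutator (P : Subgroup G)).map (P : Subgroup G).subtype := by
    rw [Subgroup.zpowers_le]
    refine ⟨⁅(⟨x, hx⟩ : (P : Subgroup G)), (⟨u, huP⟩ : (P : Subgroup G))⁆, ?_, ?_⟩
    · rw [commutator_def]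
      exact Subgroup.commutator_mem_commutator (Subgroup.mem_top _) (Subgroup.mem_top _)
    · simp [map_commutatorElement, commutatorElement_def, hc]
  rw [← Subgroup.card_map_of_injective (K := commutator (P : Subgroup G))
    (Subgroup.subtype_injective (P : Subgroup G)), le_antisymm hle hge, Nat.card_zpowers]
  exact orderOf_eq_prime hcm hc1

end CfsgLib.OneMMN
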