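import Cfsg.Agent.OneMMN.Cent
import Cfsg.Agent.CoprimeAction.Action

/-!
Class sizes `1, m, m n`: the general lemmas.
-/

set_option autoImplicit false

namespace CfsgLib.OneMMN

variable {G : Type*} [Group G] {m n p r : ℕ}

/-- A coprime action with regular quotient of exponent `p` is by a group of order at most `p`. -/
theorem card_le_of_semiregular [Finite G] [Fact p.Prime] (P S H : Subgroup G) (hP : IsPGroup p P) (hSP : S ≤ P)
    (hPH : P ≤ Subgroup.normalizer (H : Set G)) (hH : ∀ h ∈ H, ¬ p ∣ orderOf h)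
    (hSH : ∀ s ∈ S, ∀ h ∈ H, s * h = h * s) (hpow : ∀ x ∈ P, x ^ p ∈ S)
    (hcom : ∀ x ∈ P, ∀ y ∈ P, x * y * x⁻¹ * y⁻¹ ∈ S)
    (hfix : ∀ x ∈ P, x ∉ S → ∀ h ∈ H, x * h = h * x → h ∈ Subgroup.center G)
    (hHc : ∃ h ∈ H, h ∉ Subgroup.center G) : Nat.card P ≤ p * Nat.card S := by
  have hp : p.Prime := Fact.out
  have hn : (S.subgroupOf P).Normal := ⟨fun s hs x => by
    rw [Subgroup.mem_subgroupOf] at hs ⊢
    have h1 := mul_mem (hcom x x.2 s (hSP hs)) hs
    rw [inv_mul_cancel_right] at h1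
    exact h1⟩
  let A := P ⧸ S.subgroupOf P
  have hcA : IsMulCommutative A := ⟨⟨by
    intro a b
    obtain ⟨a, rfl⟩ := QuotientGroup.mk_surjective a
    obtain ⟨b, rfl⟩ := QuotientGroup.mk_surjective b
    show QuotientGroup.mk (a * b) = (QuotientGroup.mk (b * a) : A)
    rw [QuotientGroup.eq, Subgroup.mem_subgroupOf]
    have h1 := hcom _ (inv_mem b.2) _ (inv_mem a.2)
    simpa [mul_assoc] using h1⟩⟩
  have hexp : ∀ a : A, a ^ p = 1 := fun a => by
    obtain ⟨a, rfl⟩ := QuotientGroup.mk_surjective a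
    rw [← QuotientGroup.mk_pow, QuotientGroup.eq_one_iff, Subgroup.mem_subgroupOf]
    exact hpow a a.2
  have hcard : Nat.card P = Nat.card A * Nat.card S := by
    rw [Subgroup.card_eq_card_quotient_mul_card_subgroup (S.subgroupOf P),
      Nat.card_congr (Subgroup.subgroupOfEquivOfLe hSP).toEquiv]
  rw [hcard]
  refine Nat.mul_le_mul_right _ ?_
  by_cases hcyc : IsCyclic A
  · obtain ⟨g, hg⟩ := hcyc.exists_generator
    rw [← orderOf_eq_card_of_forall_mem_zpowers hg]
    exact Nat.le_of_dvd hp.pos (orderOf_dvd_of_pow_eq_one (hexp g))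
  exfalso
  let φ0 : P →* MulAut H := (Subgroup.normalizerMonoidHom H).comp (Subgroup.inclusion hPH)
  have happ : ∀ (x : P) (h : H), ((φ0 x) h : G) = x.1 * h.1 * x.1⁻¹ := fun x h => rfl
  have hker : S.subgroupOf P ≤ φ0.ker := by
    intro s hs
    refine MonoidHom.mem_ker.2 (MulEquiv.ext fun h => Subtype.ext ?_)
    rw [happ, hSH s.1 hs h h.2, mul_inv_cancel_right]
    rfl
  let φ : A →* MulAut H := QuotientGroup.lift _ φ0 hker
  have hcop : (Nat.card A).Coprime (Nat.card H) := by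
    obtain ⟨k, hk⟩ := (hP.to_quotient (S.subgroupOf P)).exists_card_eq
    rw [hk]
    refine (hp.coprime_iff_not_dvd.2 fun hd => ?_).pow_left k
    obtain ⟨h, hh⟩ := exists_prime_orderOf_dvd_card' p hd
    exact hH h h.2 (by rw [Subgroup.orderOf_coe, hh])
  obtain ⟨h, hh, hhc⟩ := hHc
  have hle : Subgroup.closure {y : H | ∃ a : A, a ≠ 1 ∧ φ a y = y} ≤ (Subgroup.center G).subgroupOf H := by
    rw [Subgroup.closure_le]
    rintro y ⟨a, ha, hy⟩
    obtain ⟨a, rfl⟩ := QuotientGroup.mk_surjective a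
    refine hfix a a.2 (fun h0 => ha ((QuotientGroup.eq_one_iff _).2 h0)) y y.2 ?_
    have := congrArg Subtype.val hy
    rw [show φ (QuotientGroup.mk a) y = φ0 a y from rfl, happ] at this
    exact mul_inv_eq_iff_eq_mul.1 this
  exact hhc (hle (CoprimeAction.mem_closure_fixed φ hcyc hcop ⟨h, hh⟩))

variable (D : Data G m n) [Finite G] [Fact p.Prime]
include D

theorem Data.nc_mul (hpm : p ∣ m) {u z : G} (hu : PElt p u) (huc : u ∉ Subgroup.center G) (hz : z ∈ C u)
    (hzp : ¬ p ∣ orderOf z) : C (u * z) = C u ⊓ C z ∧ u * z ∉ Subgroup.center G := by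
  have e := C_mul (mem_C.1 hz).symm (hu.coprime Fact.out hzp)
  refine ⟨e, fun hc => huc ?_⟩
  rw [mem_center_iff_C, eq_top_iff, ← mem_center_iff_C.1 hc, e]
  exact inf_le_left

theorem Data.cent_le_T (hpm : p ∣ m) {u z : G} (hu : PElt p u) (huT : (C u).index = m * n) (hz : z ∈ C u)
    (hzp : ¬ p ∣ orderOf z) : C u ≤ C z := by
  obtain ⟨e, hnc⟩ := D.nc_mul hpm hu (D.nc_of_idx (Or.inr huT)) hz hzp
  have := D.idx_T_of_le hnc huT (e.le.trans inf_le_left)
  rw [← this, e]
  exact inf_le_right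

theorem Data.cent_le (hpm : p ∣ m) [Fact r.Prime] (hrm : r ∣ m) (hrp : r ≠ p) {u z : G} (hu : PElt p u)
    (huc : u ∉ Subgroup.center G) (hz : z ∈ C u) (hzr : PElt r z) : C u ≤ C z := by
  have hzp := PElt.not_dvd (p := p) Fact.out Fact.out hrp hzr
  rcases D.idx huc with hm | hT
  swap
  · exact D.cent_le_T hpm hu hT hz hzp
  obtain ⟨-, -, hH, hcomm⟩ := D.cent_struct hpm hu huc
  have hsz : ∀ x : Hp p u, (C x).index = 1 ∨ (C x).index = n := by
    intro x
    obtain ⟨e, hnc⟩ := D.nc_mul hpm hu huc (Hp_le p u x.2) (hH x x.2)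
    have hS : Sp p u ≤ C (u * x) := by
      rw [e]
      exact le_inf (Sp_le p u) fun a ha => mem_C.2 (hcomm a ha x x.2)
    have h1 := D.card_between hpm hu huc hS (e.le.trans inf_le_left)
    have h2 := D.card_between hpm hu huc (Sp_le p u) le_rfl
    rw [inf_eq_right.2 (Hp_le p u)] at h2
    have h3 : C x = (C (u * x) ⊓ Hp p u).subgroupOf (Hp p u) := by
      ext y
      rw [Subgroup.mem_subgroupOf, e, Subgroup.mem_inf, Subgroup.mem_inf, mem_C, mem_C, mem_C, Subtype.ext_iff,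
        Subgroup.coe_mul, Subgroup.coe_mul]
      exact ⟨fun h => ⟨⟨mem_C.1 (Hp_le p u y.2), h⟩, y.2⟩, fun h => h.1.2⟩
    have h4 : Nat.card (C x) = Nat.card (C (u * x) ⊓ Hp p u : Subgroup G) := by
      rw [h3, Nat.card_congr (Subgroup.subgroupOfEquivOfLe inf_le_right).toEquiv]
    have h5 := (C (u * (x : G))).card_mul_index
    have h6 := (C u).card_mul_index
    have h7 := (C x).card_mul_index
    rw [h1] at h5
    rw [h2, ← h7, hm] at h6
    have hpos : 0 < Nat.card (Sp p u) * Nat.card (C x) := Nat.mul_pos Nat.card_pos Nat.card_pos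
    have h8 : (C (u * (x : G))).index = (C x).index * m := by
      refine Nat.eq_of_mul_eq_mul_left hpos ?_
      rw [h4]
      calc _ = Nat.card G := h5
        _ = _ := by rw [← h6, h4]; ring
    rcases D.idx hnc with e1 | e1 <;> rw [h8] at e1
    · exact Or.inl ((mul_eq_right₀ D.m_ne_zero).1 e1)
    · exact Or.inr (Nat.eq_of_mul_eq_mul_right (Nat.pos_of_ne_zero D.m_ne_zero) (e1.trans (mul_comm m n)))
  have hzH : z ∈ Hp p u := mem_Hp_of hz hzp
  have hzr' : PElt r (⟨z, hzH⟩ : Hp p u) := by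
    obtain ⟨k, hk⟩ := hzr
    exact ⟨k, by rw [← hk, ← Subgroup.orderOf_coe]⟩
  have hcen := pElt_central_of_two_sizes Fact.out (D.not_dvd_n Fact.out hrm) hsz hzr'
  intro y hy
  obtain ⟨a, ha, b, hb, rfl⟩ := cent_split (p := p) Fact.out hy
  exact mem_C.2 ((show Commute a z from hcomm a ha z hzH).mul_left
    (congrArg Subtype.val (Subgroup.mem_center_iff.1 hcen ⟨b, hb⟩))).eq

theorem Data.pair_eq (hpm : p ∣ m) [Fact r.Prime] (hrm : r ∣ m) (hrp : r ≠ p) {u w : G} (hu : PElt p u)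
    (huc : u ∉ Subgroup.center G) (hw : PElt r w) (hwc : w ∉ Subgroup.center G) (h : w ∈ C u) : C u = C w :=
  le_antisymm (D.cent_le hpm hrm hrp hu huc h hw) (D.cent_le hrm hpm hrp.symm hw hwc (mem_C_comm.1 h) hu)

theorem Data.exists_pElt_in (hpm : p ∣ m) {x : G} (hx : x ∉ Subgroup.center G) :
    ∃ u ∈ C x, PElt p u ∧ u ∉ Subgroup.center G := by
  obtain ⟨P⟩ := (inferInstance : Nonempty (Sylow p G))
  obtain ⟨u, huP, huc⟩ := D.exists_nc_pElt hpm P
  have hu := PElt.of_mem Fact.out P.isPGroup' huP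
  obtain ⟨U, hU, hUx, -, hUc⟩ := D.exists_pSub hpm hx (W := ⊥) IsPGroup.of_bot bot_le
  by_contra h
  push Not at h
  have hcen : U ≤ Subgroup.center G := fun a ha => h a (hUx ha) (PElt.of_mem Fact.out hU ha)
  obtain ⟨hS, hSc, -, -⟩ := D.cent_struct hpm hu huc
  have hUS : U ≤ Sp p u := fun a ha => mem_Sp_of (center_le_C u (hcen ha)) (PElt.of_mem Fact.out hU ha)
  have := Subgroup.eq_of_le_of_card_ge hUS (hSc.trans hUc.symm).le
  exact huc (hcen (this ▸ mem_Sp_of (self_mem_C u) hu))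

theorem Data.card_P (hpm : p ∣ m) (P : Sylow p G) :
    Nat.card (P : Subgroup G) = pc G m p * p ^ m.factorization p := by
  obtain ⟨x, hx⟩ := D.exM
  have hxc := D.nc_of_idx (Or.inl hx)
  rw [P.card_eq_multiplicity, pc, ← pow_add, Nat.sub_add_cancel]
  have := D.fact_card (p := p) Fact.out hpm hxc
  omega

/-- When `p` divides `m` exactly, subgroups of order `pc` of a Sylow `p`-subgroup are normal. -/
theorem Data.conj_mem (hpm : p ∣ m) (hf : m.factorization p = 1) (P : Sylow p G) {U : Subgroup G}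
    (hUc : Nat.card U = pc G m p) (hUP : U ≤ P) {x a : G} (hx : x ∈ (P : Subgroup G)) (ha : a ∈ U) :
    x * a * x⁻¹ ∈ U := by
  have hi : (U.subgroupOf P).index = p := by
    have h := (U.subgroupOf (P : Subgroup G)).card_mul_index
    rw [Nat.card_congr (Subgroup.subgroupOfEquivOfLe hUP).toEquiv, hUc, D.card_P hpm P, hf, pow_one] at h
    exact Nat.eq_of_mul_eq_mul_left (pow_pos (Fact.out : p.Prime).pos _) h
  have hmin : (Nat.card (P : Subgroup G)).minFac = p := by
    rw [D.card_P hpm P, hf, pc, ← pow_add]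
    exact Nat.Prime.pow_minFac Fact.out (by omega)
  have hn := Subgroup.normal_of_index_eq_minFac_card (H := U.subgroupOf (P : Subgroup G)) (hi.trans hmin.symm)
  exact hn.conj_mem ⟨a, hUP ha⟩ ha ⟨x, hx⟩

/-- Such a Sylow subgroup normalizes the centralizer. -/
theorem Data.C_conj_eq (hpm : p ∣ m) (hf : m.factorization p = 1) (P : Sylow p G) {u : G} (hu : PElt p u)
    (huc : u ∉ Subgroup.center G) (hSP : Sp p u ≤ P) {x : G} (hx : x ∈ (P : Subgroup G)) :
    C (x * u * x⁻¹) = C u := by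
  obtain ⟨hS, hSc, hH, hcomm⟩ := D.cent_struct hpm hu huc
  set u' := x * u * x⁻¹
  have hmem : u' ∈ Sp p u := D.conj_mem hpm hf P hSc hSP hx (mem_Sp_of (self_mem_C u) hu)
  symm
  refine eq_of_le_of_index (fun y hy => ?_) (idx_conj x u).symm
  obtain ⟨a, ha, b, hb, rfl⟩ := cent_split (p := p) Fact.out hy
  refine mul_mem ?_ (mem_C.2 (hcomm u' hmem b hb).symm)
  rw [mem_C_conj]
  refine Sp_le p u ?_
  simpa using D.conj_mem hpm hf P hSc hSP (inv_mem hx) ha

omit D in
theorem mem_normalizer_C {x u : G} (h : C (x * u * x⁻¹) = C u) : x ∈ Subgroup.normalizer ((C u : Subgroup G) : Set G) := by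
  rw [Subgroup.mem_normalizer_iff]
  intro y
  conv_rhs => rw [← h, mem_C_conj]
  simp [mul_assoc]

omit D in
theorem conj_mem_Hp {x u b : G} (h : C (x * u * x⁻¹) = C u) (hb : b ∈ C u) (hbp : ¬ p ∣ orderOf b) :
    x * b * x⁻¹ ∈ Hp p u := by
  refine mem_Hp_of ?_ (by rwa [orderOf_conj])
  rw [← h, mem_C_conj]
  simpa [mul_assoc] using hb

/-- A noncentral element all of whose centralized `p'`-elements are central. -/
theorem Data.big (hpm : p ∣ m) {y : G} (hy : y ∉ Subgroup.center G)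
    (hcen : ∀ z ∈ C y, ¬ p ∣ orderOf z → z ∈ Subgroup.center G) :
    (∀ r : ℕ, r.Prime → r ∣ m → r = p) ∧ (C y).index = m * n ∧
      ∀ h : G, ¬ p ∣ orderOf h → h ∉ Subgroup.center G → (C h).index = m := by
  have hp : p.Prime := Fact.out
  have hone : ∀ r : ℕ, r.Prime → r ∣ m → r = p := by
    intro r hr hrm
    by_contra hne
    haveI := Fact.mk hr
    obtain ⟨w, hw, hwr, hwc⟩ := D.exists_pElt_in hrm hy
    exact hwc (hcen w hw (PElt.not_dvd hp hr hne hwr))
  have hT : (C y).index = m * n := by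
    refine (D.idx hy).resolve_left fun hm => ?_
    obtain ⟨q, hq, hqn⟩ := Nat.exists_prime_and_dvd D.one_lt_n.ne'
    haveI := Fact.mk hq
    have hqp : q ≠ p := fun e => D.not_dvd_n hp hpm (e ▸ hqn)
    obtain ⟨Q⟩ := (inferInstance : Nonempty (Sylow q (C y)))
    have hQ : ¬ q ∣ ((Q : Subgroup (C y)).map (C y).subtype).index := by
      rw [Subgroup.index_map_subtype, hm]
      exact fun hh => (hq.dvd_mul.1 hh).elim Q.not_dvd_index fun h2 =>
        hq.ne_one (Nat.dvd_one.1 (D.cop ▸ Nat.dvd_gcd h2 hqn))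
    have hle : (Q : Subgroup (C y)).map (C y).subtype ≤ Subgroup.center G := fun z hz =>
      hcen z (Subgroup.map_subtype_le _ hz) (PElt.not_dvd hp hq hqp (PElt.of_mem hq (Q.isPGroup'.map _) hz))
    obtain ⟨t, ht⟩ := D.exT
    have := Subgroup.index_dvd_of_le (hle.trans (center_le_C t))
    rw [ht] at this
    exact hQ ((hqn.mul_left m).trans this)
  refine ⟨hone, hT, fun h hhp hhc => (D.idx hhc).resolve_right fun hhT => hhc ?_⟩
  refine le_of_pElts (A := Subgroup.center G) (B := Subgroup.zpowers h) (fun q hq a ha haq => ?_)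
    (Subgroup.mem_zpowers h)
  haveI := Fact.mk hq
  by_cases hqp : q = p
  · subst hqp
    rw [haq.eq_one hq fun hd => hhp (hd.trans (orderOf_dvd_of_mem_zpowers ha))]
    exact one_mem _
  obtain ⟨U⟩ := (inferInstance : Nonempty (Sylow q (C y)))
  set U' := (U : Subgroup (C y)).map (C y).subtype
  have hU'c : U' ≤ Subgroup.center G := fun z hz => hcen z (Subgroup.map_subtype_le _ hz)
    (PElt.not_dvd hp hq hqp (PElt.of_mem hq (U.isPGroup'.map _) hz))
  obtain ⟨V, hV⟩ := (haq.isPGroup_zpowers.of_equiv (Subgroup.subgroupOfEquivOfLe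
    (show Subgroup.zpowers a ≤ C h from Subgroup.zpowers_le.2
      (Subgroup.zpowers_le.2 (self_mem_C h) ha))).symm).exists_le_sylow
  set V' := (V : Subgroup (C h)).map (C h).subtype
  haveI : U'.Normal := ⟨fun z hz g => by
    rw [Subgroup.mem_center_iff.1 (hU'c hz) g, mul_inv_cancel_right]; exact hz⟩
  have hle : U' ≤ V' := by
    intro z hz
    have hzC : z ∈ C h := center_le_C h (hU'c hz)
    have hzc : (⟨z, hzC⟩ : C h) ∈ Subgroup.center (C h) :=
      Subgroup.mem_center_iff.2 fun g => Subtype.ext (Subgroup.mem_center_iff.1 (hU'c hz) g)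
    have hzq : PElt q (⟨z, hzC⟩ : C h) := by
      obtain ⟨k, hk⟩ := PElt.of_mem hq (U.isPGroup'.map _) hz
      exact ⟨k, by rw [← hk, ← Subgroup.orderOf_coe]⟩
    haveI : (Subgroup.zpowers (⟨z, hzC⟩ : C h)).Normal :=
      ⟨fun w hw g => by
        rw [Subgroup.mem_center_iff.1 ((Subgroup.zpowers_le.2 hzc) hw) g, mul_inv_cancel_right]; exact hw⟩
    have hg : IsPGroup q (Subgroup.zpowers (⟨z, hzC⟩ : C h) ⊔ (V : Subgroup (C h)) : Subgroup (C h)) :=
      hzq.isPGroup_zpowers.to_sup_of_normal_left V.isPGroup'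
    exact ⟨⟨z, hzC⟩, V.is_maximal' hg le_sup_right ▸ Subgroup.mem_sup_left (Subgroup.mem_zpowers _), rfl⟩
  have hcard : Nat.card U' = Nat.card V' := by
    rw [Subgroup.card_map_of_injective (Subgroup.subtype_injective _),
      Subgroup.card_map_of_injective (Subgroup.subtype_injective _), U.card_eq_multiplicity,
      V.card_eq_multiplicity, card_eq_of_index_eq (hT.trans hhT.symm)]
  have := Subgroup.eq_of_le_of_card_ge hle hcard.ge
  refine hU'c (this ▸ ⟨⟨a, ?_⟩, hV ?_, rfl⟩)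
  · exact Subgroup.zpowers_le.2 (self_mem_C h) ha
  · exact Subgroup.mem_zpowers a

/-- Either `p` divides `m` exactly, or a noncentral `p`-element centralizes only central `p'`-elements. -/
theorem Data.fact_one_or (hpm : p ∣ m) (P : Sylow p G) :
    m.factorization p = 1 ∨ ∃ j ∈ (P : Subgroup G), j ∉ Subgroup.center G ∧ Sp p j ≤ P ∧
      (∀ x ∈ (P : Subgroup G), x ^ p ∈ Sp p j) ∧
      (∀ x ∈ (P : Subgroup G), ∀ y ∈ (P : Subgroup G), x * y * x⁻¹ * y⁻¹ ∈ Sp p j) ∧
      ∀ z ∈ C j, ¬ p ∣ orderOf z → z ∈ Subgroup.center G := by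
  have hp : p.Prime := Fact.out
  obtain ⟨u, huP, huc⟩ := D.exists_nc_pElt hpm P
  set T := (Subgroup.center G).subgroupOf (P : Subgroup G)
  haveI : T.Normal := ⟨fun z hz g => by
    rw [Subgroup.mem_subgroupOf, Subgroup.coe_mul, Subgroup.coe_mul, Subgroup.coe_inv]
    rw [Subgroup.mem_center_iff.1 (Subgroup.mem_subgroupOf.1 hz) g, mul_inv_cancel_right]
    exact hz⟩
  haveI : Nontrivial (↥(P : Subgroup G) ⧸ T) :=
    ⟨QuotientGroup.mk ⟨u, huP⟩, 1, fun e => huc (Subgroup.mem_subgroupOf.1 ((QuotientGroup.eq_one_iff _).1 e))⟩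
  have hW : IsPGroup p (↥(P : Subgroup G) ⧸ T) := P.isPGroup'.to_quotient T
  haveI := hW.center_nontrivial
  obtain ⟨k, hk⟩ := (hW.to_subgroup (Subgroup.center _)).exists_card_eq
  have hk1 : k ≠ 0 := fun e => (Finite.one_lt_card (α := Subgroup.center (↥(P : Subgroup G) ⧸ T))).ne'
    (by rw [hk, e, pow_zero])
  obtain ⟨c, hc⟩ := exists_prime_orderOf_dvd_card' p (hk ▸ dvd_pow_self p hk1)
  obtain ⟨j, hj⟩ := QuotientGroup.mk_surjective (c : ↥(P : Subgroup G) ⧸ T)
  have hjc : (j : G) ∉ Subgroup.center G := fun h => by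
    have : c = 1 := Subtype.ext (hj.symm.trans ((QuotientGroup.eq_one_iff _).2 h))
    rw [this, orderOf_one] at hc
    exact hp.ne_one hc.symm
  have hjp : ((j : G)) ^ p ∈ Subgroup.center G := by
    have : ((j ^ p : ↥(P : Subgroup G)) : ↥(P : Subgroup G) ⧸ T) = 1 := by
      rw [QuotientGroup.mk_pow, hj, ← SubmonoidClass.coe_pow, orderOf_dvd_iff_pow_eq_one.1 (hc.dvd)]
      rfl
    exact Subgroup.mem_subgroupOf.1 ((QuotientGroup.eq_one_iff _).1 this)
  have hcz : ∀ x ∈ (P : Subgroup G), ∃ z ∈ Subgroup.center G, x * j * x⁻¹ = j * z ∧ z ^ p = 1 := by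
    intro x hx
    set z := (j : G)⁻¹ * (x * j * x⁻¹) with hz
    have hzc : z ∈ Subgroup.center G := by
      have h1 := Subgroup.mem_center_iff.1 c.2 (QuotientGroup.mk ⟨x, hx⟩)
      rw [← hj] at h1
      have h2 := QuotientGroup.eq.1 h1.symm
      rw [Subgroup.mem_subgroupOf] at h2
      simp only [Subgroup.coe_mul, Subgroup.coe_inv] at h2
      have h3 := (conj_mem_center (g := x)).2 h2
      rwa [show x * (((j : G) * x)⁻¹ * (x * j)) * x⁻¹ = z by rw [hz]; group] at h3
    refine ⟨z, hzc, by rw [hz, mul_inv_cancel_left], ?_⟩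
    have h1 : (x * j * x⁻¹) ^ p = (j : G) ^ p := by
      rw [conj_pow, Subgroup.mem_center_iff.1 hjp x, mul_inv_cancel_right]
    rwa [show x * j * x⁻¹ = j * z by rw [hz, mul_inv_cancel_left],
      (show Commute (j : G) z from Subgroup.mem_center_iff.1 hzc j).mul_pow, mul_eq_left] at h1
  have hCj : ∀ x ∈ (P : Subgroup G), C (x * (j : G) * x⁻¹) = C (j : G) := fun x hx => by
    obtain ⟨z, hz, e, -⟩ := hcz x hx
    rw [e, C_mul_central hz]
  have hju : PElt p (j : G) := PElt.of_mem hp P.isPGroup' j.2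
  obtain ⟨hS, hSc, hH, hcomm⟩ := D.cent_struct hpm hju hjc
  have hnorm : (P : Subgroup G) ≤ Subgroup.normalizer (Sp p (j : G) : Set G) := by
    intro x hx
    rw [Subgroup.mem_normalizer_iff]
    intro y
    constructor
    · intro hy
      refine mem_Sp_of ?_ ((PElt.of_mem hp hS hy).conj x)
      rw [← hCj x hx, mem_C_conj]
      simpa [mul_assoc] using Sp_le p (j : G) hy
    · intro hy
      have h1 : x⁻¹ * (x * y * x⁻¹) * x⁻¹⁻¹ ∈ Sp p (j : G) := by
        refine mem_Sp_of ?_ ((PElt.of_mem hp hS hy).conj x⁻¹)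
        rw [← hCj x⁻¹ (inv_mem hx), mem_C_conj]
        simpa [mul_assoc] using Sp_le p (j : G) hy
      simpa [mul_assoc] using h1
  have hSP : Sp p (j : G) ≤ P := by
    have hg : IsPGroup p ((P : Subgroup G) ⊔ Sp p (j : G) : Subgroup G) :=
      P.isPGroup'.to_sup_of_normal_right' hS hnorm
    exact le_sup_right.trans (P.is_maximal' hg le_sup_left).le
  have hpow : ∀ x ∈ (P : Subgroup G), x ^ p ∈ Sp p (j : G) := by
    intro x hx
    refine mem_Sp_of (mem_C.2 ?_) (PElt.of_mem hp P.isPGroup' (pow_mem hx p))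
    obtain ⟨z, hz, e, hzp⟩ := hcz x hx
    have hi : ∀ i : ℕ, x ^ i * (j : G) = j * z ^ i * x ^ i := by
      intro i
      induction i with
      | zero => simp
      | succ i ih =>
        have hzc : z ^ i * x = x * z ^ i := (Subgroup.mem_center_iff.1 (pow_mem hz i) x).symm
        calc x ^ (i + 1) * (j : G) = x * (x ^ i * j) := by rw [pow_succ', mul_assoc]
          _ = (x * j * x⁻¹) * (x * z ^ i) * x ^ i := by rw [ih]; group
          _ = _ := by rw [e, ← hzc, pow_succ' z, pow_succ' x]; simp only [mul_assoc]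
    rw [hi p, hzp, mul_one]
  have hcom : ∀ x ∈ (P : Subgroup G), ∀ y ∈ (P : Subgroup G), x * y * x⁻¹ * y⁻¹ ∈ Sp p (j : G) := by
    intro x hx y hy
    refine mem_Sp_of ?_ (PElt.of_mem hp P.isPGroup' (mul_mem (mul_mem (mul_mem hx hy) (inv_mem hx)) (inv_mem hy)))
    obtain ⟨a, ha, ea, -⟩ := hcz x hx
    obtain ⟨b, hb, eb, -⟩ := hcz y hy
    have ha' := Subgroup.mem_center_iff.1 ha
    have hb' := Subgroup.mem_center_iff.1 hb
    have xj : x * (j : G) = j * (a * x) := by rw [← mul_assoc, ← ea, inv_mul_cancel_right]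
    have yj : y * (j : G) = j * (b * y) := by rw [← mul_assoc, ← eb, inv_mul_cancel_right]
    have key : (x * y) * (j : G) * (x * y)⁻¹ = (y * x) * j * (y * x)⁻¹ := by
      have e1 : ∀ (s t c d : G), s * (j : G) = j * (c * s) → t * (j : G) = j * (d * t) →
          (∀ g, g * c = c * g) → (∀ g, g * d = d * g) → s * t * j * (s * t)⁻¹ = j * (c * d) := by
        intro s t c d hs ht hcc hd
        calc s * t * j * (s * t)⁻¹ = s * (t * j) * (s * t)⁻¹ := by group
          _ = (s * j) * d * t * (s * t)⁻¹ := by rw [ht]; group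
          _ = j * (c * (s * d)) * t * (s * t)⁻¹ := by rw [hs]; group
          _ = j * (c * d) := by rw [hd s]; group
      rw [e1 x y a b xj yj ha' hb', e1 y x b a yj xj hb' ha', ha' b]
    rw [← hCj (x * y) (mul_mem hx hy), mem_C_conj, mem_C]
    calc (x * y)⁻¹ * (x * y * x⁻¹ * y⁻¹) * (x * y) * j
        = (y * x)⁻¹ * ((x * y) * j * (x * y)⁻¹) * (x * y) := by group
      _ = (y * x)⁻¹ * ((y * x) * j * (y * x)⁻¹) * (x * y) := by rw [key]
      _ = _ := by group
  by_cases hcase : ∀ z ∈ C (j : G), ¬ p ∣ orderOf z → z ∈ Subgroup.center G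
  · exact Or.inr ⟨j, j.2, hjc, hSP, hpow, hcom, hcase⟩
  push Not at hcase
  obtain ⟨z, hz, hzp, hzc⟩ := hcase
  refine Or.inl ?_
  have hle := card_le_of_semiregular (p := p) (P : Subgroup G) (Sp p (j : G)) (Hp p (j : G)) P.isPGroup' hSP ?_ hH
    hcomm hpow hcom (fun x hx hxS h hh hxh => by
      by_contra hhc
      have hW : IsPGroup p (Sp p (j : G) ⊔ Subgroup.zpowers x : Subgroup G) :=
        P.isPGroup'.to_le (sup_le hSP (Subgroup.zpowers_le.2 hx))
      have := D.pSub_max hpm hhc hSc le_sup_left hW (sup_le (fun a ha => mem_C.2 (hcomm a ha h hh))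
        (Subgroup.zpowers_le.2 (mem_C.2 hxh)))
      exact hxS (this ▸ Subgroup.mem_sup_right (Subgroup.mem_zpowers x)))
    ⟨z, mem_Hp_of hz hzp, hzc⟩
  · rw [D.card_P hpm P, hSc, mul_comm] at hle
    have h2 : p ^ m.factorization p ≤ p ^ 1 := by
      rw [pow_one]
      exact Nat.le_of_mul_le_mul_right hle (pow_pos hp.pos _)
    have := hp.factorization_pos_of_dvd D.m_ne_zero hpm
    have := (Nat.pow_le_pow_iff_right hp.one_lt).1 h2
    omega
  · intro x hx
    rw [Subgroup.mem_normalizer_iff]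
    intro y
    constructor
    · exact fun hy => conj_mem_Hp (hCj x hx) (Hp_le p _ hy) (hH y hy)
    · intro hy
      have := conj_mem_Hp (p := p) (hCj x⁻¹ (inv_mem hx)) (Hp_le p _ hy) (hH _ hy)
      simpa [mul_assoc] using this

end CfsgLib.OneMMN
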